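import Cfsg.Agent.Lib.ThP.ToTh
import Cfsg.Agent.Lib.ThP.Order
import Cfsg.Agent.Lib.ThP.Trans

/-!
Words in the eight generators of the presented Thompson group: letters `2 i` and `2 i + 1` are the generator
number `i` of `a, b, c, d, e, s, t, u` and its inverse.
-/

set_option autoImplicit false
set_option maxRecDepth 20000

namespace Cfsg.Agent.Lib.ThDce

open Cfsg.Agent.Lib.CosetEnum Cfsg.Agent.Lib.ExactCover

/-- The presented Thompson group. -/
abbrev G : Type := Cfsg.Spor.Th

/-- The generators. -/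
def gen8 : Fin 8 → Cfsg.Spor.Th.Gen := ![.a, .b, .c, .d, .e, .s, .t, .u]

/-- The value of a word. -/
noncomputable def el (l : List ℕ) : G :=
  PresentedGroup.mk ThP.thRels (FreeGroup.map gen8 (word 8 l))

theorem el_nil : el [] = 1 := by simp [el, word_nil]

theorem el_append (u v : List ℕ) : el (u ++ v) = el u * el v := by simp [el, word_append]

theorem el_cons (g : ℕ) (l : List ℕ) : el (g :: l) = el [g] * el l := el_append [g] l

theorem el_invWord (l : List ℕ) : el (invWord l) = (el l)⁻¹ := by simp [el, word_invWord]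

theorem el_flip (g : ℕ) : el [flip g] = (el [g])⁻¹ := by simp [el, word_flip]

theorem el_pair (g : ℕ) : el [g, flip g] = 1 := by rw [el_cons, el_flip, mul_inv_cancel]

/-- The relator words: the two relators joining `b` to `u`, and those not involving `b`. -/
def relW : List (List ℕ) := [[15, 3, 5, 1, 2, 14, 3, 0, 4, 2, 9],
    [7, 15, 6, 3, 5, 1, 2, 7, 14, 6, 3, 0, 4, 2, 5, 9, 7, 15, 6, 3, 5, 1, 2, 9, 15],
    [0, 0],
    [4, 4],
    [6, 6],
    [8, 8],
    [0, 8, 0, 8],
    [0, 7, 5, 7, 5, 7, 5, 7, 5],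
    [4, 8, 4, 8],
    [6, 8, 6, 8, 6, 8],
    [10, 10, 10, 10, 10, 10, 10],
    [11, 1, 10, 0],
    [11, 5, 10, 4],
    [10, 6, 10, 6],
    [9, 11, 8, 10, 11, 11, 11, 9, 10, 10, 10],
    [12, 12, 12],
    [13, 1, 12, 0],
    [13, 5, 12, 4],
    [13, 7, 12, 6],
    [13, 9, 12, 8],
    [13, 10, 12, 11, 11],
    [14, 14, 5, 1],
    [15, 1, 14, 0],
    [15, 5, 14, 4],
    [15, 9, 14, 8],
    [6, 8, 15, 6, 14, 6, 8, 15, 6, 14],
    [15, 12, 14, 12],
    [9, 11, 11, 15, 10, 10, 8, 11, 11, 14, 10, 10],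
    [0, 4, 11, 15, 11, 15, 11, 15],
    [0, 4, 11, 15, 10, 14, 11, 15, 10, 14, 11, 15, 10, 14, 11, 15, 10, 14],
    [6, 11, 11, 14, 10, 10, 6, 11, 11, 14, 10, 10, 6, 11, 11, 14, 10, 10, 6, 11, 11, 14, 10, 10, 11, 11, 9, 7, 5, 6, 8, 10, 10, 10, 9, 7, 5, 6, 8, 11, 7, 5, 6, 5, 1]]

theorem relW_mem : ∀ l ∈ relW,
    FreeGroup.mk ((l.map (stdSym 8)).map fun p => (gen8 p.1, p.2)) ∈ Cfsg.Spor.Th.extra := by
  decide +kernel

theorem el_rel {l : List ℕ} (h : l ∈ relW) : el l = 1 := by
  rw [el, word, FreeGroup.map.mk]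
  exact PresentedGroup.one_of_mem (Set.mem_union_right _ (relW_mem l h))

/-- A cyclic rotation of a relator or of its inverse. -/
def rot (r : ℕ × Bool × ℕ) : List ℕ :=
  let w := relW.getD r.1 []
  let v := bif r.2.1 then invWord w else w
  v.drop r.2.2 ++ v.take r.2.2

theorem el_rot (r : ℕ × Bool × ℕ) : el (rot r) = 1 := by
  have hw : el (relW.getD r.1 []) = 1 := by
    by_cases h : r.1 < relW.length
    · rw [List.getD_eq_getElem _ _ h]; exact el_rel (List.getElem_mem h)
    · rw [List.getD_eq_default _ _ (by omega)]; exact el_nil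
  have hrot : ∀ (v : List ℕ) (k : ℕ), el v = 1 → el (v.drop k ++ v.take k) = 1 := by
    intro v k hv
    rw [el_append]
    rw [← List.take_append_drop k v, el_append] at hv
    exact mul_eq_one_comm.1 hv
  unfold rot
  cases r.2.1
  · exact hrot _ _ hw
  · exact hrot _ _ ((el_invWord _).trans (by rw [hw, inv_one]))

/-- All letters are letters of `P`. -/
def okP (l : List ℕ) : Bool := l.all fun g => Nat.blt g 14

theorem okP_iff {l : List ℕ} : okP l = true ↔ ∀ g ∈ l, g < 14 := by simp [okP]

theorem okP_append {u v : List ℕ} (hu : okP u = true) (hv : okP v = true) : okP (u ++ v) = true := by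
  simp only [okP, List.all_append, Bool.and_eq_true]; exact ⟨hu, hv⟩

theorem okP_invWord {u : List ℕ} (hu : okP u = true) : okP (invWord u) = true := by
  rw [okP_iff] at hu ⊢
  intro g hg
  obtain ⟨x, hx, rfl⟩ := List.mem_map.1 (List.mem_reverse.1 hg)
  have := hu x hx
  unfold ExactCover.flip
  split <;> omega

theorem toTh_phi (g : ℕ) (hg : g < 14) : ThP.toTh (ThP.letters.phi ThP.pres g) = el [g] := by
  rw [Letters.phi_of_lt (L := ThP.letters) (show g < ThP.letters.K from hg)]
  interval_cases g <;> rfl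

theorem el_eq_toTh (l : List ℕ) (hl : okP l = true) : el l = ThP.toTh (ThP.val l) := by
  induction l with
  | nil => simp [el_nil, ThP.val]
  | cons g l ih =>
    simp only [okP, List.all_cons, Bool.and_eq_true, Nat.blt_eq] at hl
    rw [el_cons, ih hl.2, show ThP.val (g :: l) = ThP.letters.phi ThP.pres g * ThP.val l from rfl, map_mul,
      toTh_phi g hl.1]

theorem el_mem_range {l : List ℕ} (hl : okP l = true) : el l ∈ ThP.toTh.range :=
  ⟨_, (el_eq_toTh l hl).symm⟩

/-- Words of `P` agreeing on the base points. -/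
noncomputable def pEq (u v : List ℕ) : Bool := okP u && okP v && ThP.wordEq u v

theorem pEq_val {u v : List ℕ} (h : pEq u v = true) : ThP.val u = ThP.val v := by
  simp only [pEq, Bool.and_eq_true] at h
  exact ThP.wordEq_sound u v (okP_iff.1 h.1.1) (okP_iff.1 h.1.2) h.2

theorem pEq_el {u v : List ℕ} (h : pEq u v = true) : el u = el v := by
  have h' := h
  simp only [pEq, Bool.and_eq_true] at h'
  rw [el_eq_toTh u h'.1.1, el_eq_toTh v h'.1.2, pEq_val h]

theorem val_nil : ThP.val [] = 1 := rfl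

theorem val_append (u v : List ℕ) : ThP.val (u ++ v) = ThP.val u * ThP.val v := by simp [ThP.val]

theorem val_invWord : ∀ u : List ℕ, okP u = true → ThP.val (invWord u) = (ThP.val u)⁻¹ := by
  intro u
  induction u with
  | nil => intro _; simp [invWord, ThP.val]
  | cons g u ih =>
    intro h
    simp only [okP, List.all_cons, Bool.and_eq_true, Nat.blt_eq] at h
    have hp : ∀ g < 14, pEq ([ExactCover.flip g] ++ [g]) [] = true := by decide +kernel
    have hf := pEq_val (hp g h.1)
    rw [val_append, val_nil] at hf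
    rw [invWord, List.map_cons, List.reverse_cons, val_append, ← invWord, ih h.2,
      show g :: u = [g] ++ u from rfl, val_append, mul_inv_rev, eq_inv_of_mul_eq_one_left hf]

end Cfsg.Agent.Lib.ThDce
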