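import Cfsg.Agent.Lib.ThDce.Exact

/-! The orders of the node stabilisers, counted along one flag each. -/

set_option autoImplicit false

namespace Cfsg.Agent.Lib.ThDce

open Cfsg.Agent.Lib.CosetEnum Cfsg.Agent.Lib.ExactCover

/-- The count at one node: a flag, the size of its orbit, and the elements of its stabiliser in `H₀` with
their expressions and their products with the generators. -/
structure CountCert where
  pos : ℕ
  f : ℕ
  n : ℕ
  els : List (List ℕ)
  wit : List (List (ℕ × Bool))
  nxt : List (List ℕ)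

/-- The blocks carrying a flag. -/
noncomputable def orbitCount (V : VData) (f : ℕ) : ℕ :=
  ((List.range 819).filter fun b => Nat.beq (V.blk b).f f).length

/-- Check a count. -/
noncomputable def CountCert.check (C : Model) (K : CountCert) : Bool :=
  let V := C.vtx (C.nodes.getD K.pos 0)
  let cg := (C.flag K.f).cg
  let m := K.els.length
  Nat.blt K.pos C.nodes.length && V.flags.any (fun x => Nat.beq x K.f) && Nat.beq (orbitCount V K.f) K.n &&
  Nat.blt 0 m && leq (K.els.getD 0 []) [] &&
  ((List.range m).all fun e =>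
    pEq (K.els.getD e []) (genW cg (K.wit.getD e [])) &&
    ((List.range cg.length).all fun j =>
      let q := (K.nxt.getD e []).getD j 0
      Nat.blt q m && pEq (K.els.getD e [] ++ cg.getD j []) (K.els.getD q [])) &&
    (List.range e).all fun e' => !ThP.wordEq (K.els.getD e []) (K.els.getD e' []))

theorem wordEq_of_val {u v : List ℕ} (hu : okP u = true) (hv : okP v = true) (h : ThP.val u = ThP.val v) :
    ThP.wordEq u v = true := by
  simp only [ThP.wordEq, List.all_eq_true, Nat.beq_eq]
  intro b hb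
  have hb' : b < 819 := by
    simp only [ThP.Slp.base, List.mem_cons, List.not_mem_nil, or_false] at hb
    omega
  have e1 := ThP.act_word u (okP_iff.1 hu) ⟨b, hb'⟩
  have e2 := ThP.act_word v (okP_iff.1 hv) ⟨b, hb'⟩
  rw [← e1, ← e2, h]

namespace Cert

variable (F : Cert)

/-- The flag and coset of an element of `H₀` in its stabiliser. -/
def flagClass (f : ℕ) (k : ThP.P) : ℕ × Set ThP.P := (f, {x | x * k⁻¹ ∈ Side.fstab F.C.FN f})

theorem card_fstab {K : CountCert} (hK : K.check F.C = true) :
    Nat.card (Side.fstab F.C.FN K.f) = K.els.length := by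
  simp only [CountCert.check, Bool.and_eq_true, List.any_eq_true, List.all_eq_true, List.mem_range,
    Nat.blt_eq, Nat.beq_eq] at hK
  obtain ⟨⟨⟨⟨⟨hpos, ⟨y, hy, rfl⟩⟩, -⟩, hm⟩, h0⟩, he⟩ := hK
  obtain ⟨hlt, -⟩ := F.node_flag hpos hy
  have hcg : ∀ c ∈ F.C.FN.cg K.f, okH c = true := fun c hc => ((F.flag_facts hlt).cgH c hc).1
  have hok : ∀ e < K.els.length, okP (K.els.getD e []) = true := fun e hee => by
    have := (he e hee).1.1
    simp only [pEq, Bool.and_eq_true] at this
    exact this.1.1
  have hmem : ∀ e < K.els.length, ThP.val (K.els.getD e []) ∈ Side.fstab F.C.FN K.f := fun e hee => by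
    rw [pEq_val (he e hee).1.1]
    exact (Side.genW_mem_fstab hcg _).1
  let v : Fin K.els.length → Side.fstab F.C.FN K.f := fun e => ⟨_, hmem e.1 e.2⟩
  have hinj : Function.Injective v := by
    have key : ∀ a < K.els.length, ∀ b < a,
        ThP.val (K.els.getD a []) ≠ ThP.val (K.els.getD b []) := by
      intro a ha b hb h
      have := (he a ha).2 b hb
      rw [wordEq_of_val (hok a ha) (hok b (by omega)) h] at this
      simp at this
    intro a b h
    have h' : ThP.val (K.els.getD a.1 []) = ThP.val (K.els.getD b.1 []) := congrArg Subtype.val h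
    rcases lt_trichotomy a.1 b.1 with hab | hab | hab
    · exact absurd h'.symm (key _ b.2 _ hab)
    · exact Fin.ext hab
    · exact absurd h' (key _ a.2 _ hab)
  have hsurj : Function.Surjective v := by
    rintro ⟨x, hx⟩
    suffices ∀ y ∈ Side.fstab F.C.FN K.f, ∀ e < K.els.length, ∃ q < K.els.length,
        ThP.val (K.els.getD q []) = ThP.val (K.els.getD e []) * y by
      obtain ⟨q, hq, e⟩ := this x hx 0 hm
      rw [leq_eq h0, val_nil, one_mul] at e
      exact ⟨⟨q, hq⟩, Subtype.ext e⟩
    intro y hy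
    have hy' : y ∈ Submonoid.closure {x | ∃ c ∈ F.C.FN.cg K.f, ThP.val c = x} := by
      rw [← Subgroup.closure_toSubmonoid_of_finite]
      exact hy
    clear hy
    induction hy' using Submonoid.closure_induction with
    | mem z hz =>
      obtain ⟨c, hc, rfl⟩ := hz
      obtain ⟨j, hj, rfl⟩ := List.mem_iff_getElem.1 hc
      intro e hee
      have hj' : j < (F.C.flag K.f).cg.length := hj
      obtain ⟨hq, hp⟩ := (he e hee).1.2 j hj'
      refine ⟨_, hq, ?_⟩
      rw [List.getD_eq_getElem _ _ hj'] at hp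
      rw [← pEq_val hp, val_append]
      rfl
    | one => exact fun e hee => ⟨e, hee, (mul_one _).symm⟩
    | mul a b _ _ ha hb =>
      intro e hee
      obtain ⟨q, hq, h1⟩ := ha e hee
      obtain ⟨r, hr, h2⟩ := hb q hq
      exact ⟨r, hr, by rw [h2, h1, mul_assoc]⟩
  rw [← Nat.card_eq_of_bijective v ⟨hinj, hsurj⟩, Nat.card_fin]

theorem card_stab {K : CountCert} (hK : K.check F.C = true) :
    Nat.card (pSide.stab (F.C.vtx (F.nd K.pos))) = K.n * K.els.length := by
  have hcard := F.card_fstab hK
  simp only [CountCert.check, Bool.and_eq_true, List.any_eq_true, List.all_eq_true, List.mem_range,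
    Nat.blt_eq, Nat.beq_eq] at hK
  obtain ⟨⟨⟨⟨⟨hpos, ⟨y, hy, rfl⟩⟩, hn⟩, -⟩, -⟩, -⟩ := hK
  have hV := F.nodeOK K.pos hpos
  obtain ⟨hlt, hvn⟩ := F.node_flag hpos hy
  have hF := F.flag_facts hlt
  set V := F.C.vtx (F.nd K.pos) with hVdef
  set S := Side.fstab F.C.FN K.f with hS
  set w := ThP.val (F.C.flag K.f).w with hw
  -- conjugates of the flag's stabiliser lie in the node stabiliser
  have hconj : ∀ s ∈ S, w * s * w⁻¹ ∈ pSide.stab V := by
    intro s hs
    induction hs using Subgroup.closure_induction with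
    | mem x hx =>
      obtain ⟨c, hc, rfl⟩ := hx
      obtain ⟨σ, hσ, e⟩ := hF.witN c hc
      rw [hw, e, mul_inv_cancel_right, hVdef, ← hvn]
      exact hσ
    | one => simp
    | mul a b _ _ ha hb => have := mul_mem ha hb; simpa [mul_assoc] using this
    | inv a _ ha => have := inv_mem ha; simpa [mul_assoc] using this
  have hφ : Side.Invariant F.C.FN V F.flagClass := by
    intro f _ s hs k _
    refine Prod.ext rfl ?_
    ext x
    change x * (s * k)⁻¹ ∈ Side.fstab F.C.FN f ↔ x * k⁻¹ ∈ Side.fstab F.C.FN f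
    rw [mul_inv_rev, ← mul_assoc]
    exact Subgroup.mul_mem_cancel_right _ (inv_mem hs)
  have hblk : ∀ b < 819, (V.blk b).f = K.f →
      ThP.val (invWord (ThP.transWord b)) * (ThP.val (V.blk b).K)⁻¹ * w⁻¹ ∈ pSide.stab V := by
    intro b hb hbf
    obtain ⟨σ, hσ, g, hg, k, hk, e⟩ := Side.cover hV (pSide_dec (ThP.val (invWord (ThP.transWord b))))
    change ThP.val (invWord (ThP.transWord b)) = σ * ThP.val (F.C.flag g).w * k at e
    have h1 : pSide.ext V F.flagClass (ThP.val (invWord (ThP.transWord b))) =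
        F.flagClass (V.blk b).f (ThP.val (V.blk b).K * 1) := by
      have := Side.ext_eq (S := pSide) (V := V) pSide_sep F.flagClass (show b < pSide.n from hb)
        (one_mem ThP.subC)
      rw [map_one, mul_one] at this
      exact this
    have h2 : pSide.ext V F.flagClass (ThP.val (invWord (ThP.transWord b))) = F.flagClass g k := by
      rw [e, mul_assoc, (Side.ext_stab hV pSide_sep hφ hσ (pSide_dec _)).2]
      exact Side.ext_flag hV pSide_sep _ hg hk
    rw [h1, mul_one, hbf] at h2
    have hgf : K.f = g := congrArg Prod.fst h2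
    subst hgf
    have hks : k * (ThP.val (V.blk b).K)⁻¹ ∈ S := by
      have h3 : ({x | x * (ThP.val (V.blk b).K)⁻¹ ∈ Side.fstab F.C.FN K.f} : Set ThP.P) =
          {x | x * k⁻¹ ∈ Side.fstab F.C.FN K.f} := congrArg Prod.snd h2
      have : k ∈ ({x | x * k⁻¹ ∈ Side.fstab F.C.FN K.f} : Set ThP.P) := by simp [one_mem]
      rw [← h3] at this
      exact this
    have := mul_mem hσ (hconj _ hks)
    rw [hw] at this ⊢
    convert this using 1
    rw [e]
    group
  let Φ : {b : Fin 819 // (V.blk b.1).f = K.f} × S → pSide.stab V := fun x =>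
    ⟨ThP.val (invWord (ThP.transWord x.1.1.1)) * (ThP.val (V.blk x.1.1.1).K)⁻¹ * w⁻¹ * (w * x.2.1 * w⁻¹),
      mul_mem (hblk _ x.1.1.2 x.1.2) (hconj _ x.2.2)⟩
  have hcH : ∀ b < 819, ThP.val (V.blk b).K ∈ ThP.subC := fun b hb =>
    okH_mem (Side.blk_facts hV (show b < pSide.n from hb)).2
  have hSH : ∀ s ∈ S, s ∈ ThP.subC := by
    intro s hs
    refine (Subgroup.closure_le _).2 ?_ hs
    rintro x ⟨c, hc, rfl⟩
    exact okH_mem (hF.cgH c hc).1
  have hbij : Function.Bijective Φ := by
    constructor
    · rintro ⟨⟨b, hb⟩, s, hs⟩ ⟨⟨b', hb'⟩, s', hs'⟩ h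
      have h' : ThP.val (invWord (ThP.transWord b.1)) * ((ThP.val (V.blk b.1).K)⁻¹ * s) =
          ThP.val (invWord (ThP.transWord b'.1)) * ((ThP.val (V.blk b'.1).K)⁻¹ * s') := by
        have := congrArg (fun z => z.1 * w) h
        simpa [Φ, mul_assoc] using this
      have hbb : b = b' := Fin.ext (pSide_sep.uniq b.1 b.2 b'.1 b'.2 _
        (mul_mem (inv_mem (hcH _ b.2)) (hSH s hs)) _ (mul_mem (inv_mem (hcH _ b'.2)) (hSH s' hs')) h')
      subst hbb
      have := mul_left_cancel (mul_left_cancel h')
      subst this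
      rfl
    · rintro ⟨σ, hσ⟩
      obtain ⟨b, hb, k, hk, e⟩ := pSide_dec (σ * w)
      change σ * w = ThP.val (invWord (ThP.transWord b)) * k at e
      have h1 : pSide.ext V F.flagClass (σ * w) = F.flagClass (V.blk b).f (ThP.val (V.blk b).K * k) := by
        rw [e]; exact Side.ext_eq (S := pSide) (V := V) pSide_sep F.flagClass hb hk
      have h2 : pSide.ext V F.flagClass (σ * w) = F.flagClass K.f 1 := by
        rw [(Side.ext_stab hV pSide_sep hφ hσ (pSide_dec _)).2]
        have := Side.ext_flag hV pSide_sep F.flagClass hy (one_mem ThP.subC)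
        rw [map_one, mul_one] at this
        exact this
      rw [h1] at h2
      have hbf : (V.blk b).f = K.f := congrArg Prod.fst h2
      rw [hbf] at h2
      have hs : ThP.val (V.blk b).K * k ∈ S := by
        have h3 : ({x | x * (ThP.val (V.blk b).K * k)⁻¹ ∈ Side.fstab F.C.FN K.f} : Set ThP.P) =
            {x | x * (1 : ThP.P)⁻¹ ∈ Side.fstab F.C.FN K.f} := congrArg Prod.snd h2
        have : ThP.val (V.blk b).K * k ∈
            ({x | x * (ThP.val (V.blk b).K * k)⁻¹ ∈ Side.fstab F.C.FN K.f} : Set ThP.P) := by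
          simp [one_mem]
        rw [h3] at this
        simpa using this
      refine ⟨(⟨⟨b, hb⟩, hbf⟩, ⟨_, hs⟩), Subtype.ext ?_⟩
      have hσe : σ = ThP.val (invWord (ThP.transWord b)) * k * w⁻¹ := by rw [← e, mul_inv_cancel_right]
      change ThP.val (invWord (ThP.transWord b)) * (ThP.val (V.blk b).K)⁻¹ * w⁻¹ *
        (w * (ThP.val (V.blk b).K * k) * w⁻¹) = σ
      rw [hσe]
      group
  rw [← Nat.card_eq_of_bijective Φ hbij, Nat.card_prod, hcard]
  refine congrArg (· * K.els.length) ?_
  rw [← hn, orbitCount]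
  have hfil : ∀ n : ℕ, Nat.card {b : Fin n // (V.blk b.1).f = K.f} =
      ((List.range n).filter fun b => Nat.beq (V.blk b).f K.f).length := by
    intro n
    classical
    rw [Nat.card_eq_fintype_card, Fintype.card_subtype]
    have : ((List.range n).filter fun b => Nat.beq (V.blk b).f K.f).length =
        ((List.range n).filter fun b => Nat.beq (V.blk b).f K.f).toFinset.card :=
      (List.toFinset_card_of_nodup (List.nodup_range.filter _)).symm
    rw [this, ← Finset.card_map Fin.valEmbedding]
    refine congrArg Finset.card (Finset.ext fun b => ?_)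
    simp only [Finset.mem_map, Finset.mem_filter, Finset.mem_univ, true_and, Fin.valEmbedding_apply,
      List.mem_toFinset, List.mem_filter, List.mem_range, Nat.beq_eq]
    exact ⟨fun ⟨a, ha, hab⟩ => hab ▸ ⟨a.2, ha⟩, fun ⟨h1, h2⟩ => ⟨⟨b, h1⟩, h2, rfl⟩⟩
  rw [hfil 819]

end Cert

end Cfsg.Agent.Lib.ThDce
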