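import Cfsg.Agent.Lib.ThDce.Side
import Cfsg.Agent.Lib.ThP.DSimple.Main

/-!
A certificate of the finished enumeration: vertices (nodes and lines), flags joining them, and what is
checked of them.
-/

set_option autoImplicit false

namespace Cfsg.Agent.Lib.ThDce

open Cfsg.Agent.Lib.CosetEnum Cfsg.Agent.Lib.ExactCover

/-- A flag: node and line, representatives, the equation, the position of the node, generators of its
stabiliser in `H₀` and their expressions at both ends. -/
structure FRec where
  vn : ℕ
  vl : ℕ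
  w : List ℕ
  x : List ℕ
  fact : ℕ
  rev : Bool
  pos : ℕ
  cg : List (List ℕ)
  witN : List (List (ℕ × Bool))
  witL : List (List (ℕ × Bool))

/-- Equality of two words of `⟨a, c, d, e, s, t, u⟩` by the coset table. -/
noncomputable def cEq (T : CTab) (u v : List ℕ) : Bool :=
  CTab.okC u && CTab.okC v && Nat.beq (T.run u 0).1 (T.run v 0).1 && pEq (T.run u 0).2 (T.run v 0).2

theorem cEq_el {T : CTab} (hT : T.OK) {u v : List ℕ} (h : cEq T u v = true) : el u = el v := by
  simp only [cEq, Bool.and_eq_true, Nat.beq_eq] at h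
  obtain ⟨⟨⟨hu, hv⟩, hj⟩, he⟩ := h
  have e1 := (CTab.run_sound hT u 0 hu (by omega)).2.2.2
  have e2 := (CTab.run_sound hT v 0 hv (by omega)).2.2.2
  rw [hT.rep0, el_nil, one_mul] at e1 e2
  rw [e1, e2, hj, pEq_el he]

/-- The data. -/
structure Model where
  D : DData
  V : List VData
  gfact : List (List ℕ)
  flags : List FRec
  nodes : List ℕ
  /-- The number of equations. -/
  M : ℕ

namespace Model

variable (C : Model)

/-- The vertex with the given number. -/
def vtx (v : ℕ) : VData := C.V.getD v ⟨[], [], [], []⟩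

/-- The flag with the given number. -/
def flag (f : ℕ) : FRec := C.flags.getD f ⟨0, 0, [], [], 0, false, 0, [], [], []⟩

/-- The flags seen from the nodes. -/
def FN : FlagData := ⟨fun f => (C.flag f).w, fun f => (C.flag f).cg⟩

/-- The flags seen from the lines. -/
def FL : FlagData := ⟨fun f => (C.flag f).x, fun f => (C.flag f).cg⟩

/-- Is a vertex a line? -/
def isLine (v : ℕ) : Bool := C.D.line.getD v false

/-- The words of a vertex's generators come from equations at it, and its flags belong to it. -/
noncomputable def checkVtx (v : ℕ) : Bool :=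
  ((List.range (C.vtx v).gens.length).all fun j =>
    let n := (C.gfact.getD v []).getD j 0
    let F := C.D.fact n
    Nat.blt n C.M && Nat.beq F.a.1 v && Nat.beq F.b.1 v &&
      leq ((C.vtx v).gens.getD j []) (F.a.2 ++ invWord F.b.2)) &&
  ((C.vtx v).flags.all fun f =>
    Nat.blt f C.flags.length && Nat.beq (bif C.isLine v then (C.flag f).vl else (C.flag f).vn) v)

/-- Check one flag. -/
noncomputable def checkFlag (f : ℕ) : Bool :=
  let r := C.flag f
  let F := C.D.fact r.fact
  let a := bif r.rev then F.b else F.a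
  let b := bif r.rev then F.a else F.b
  Nat.blt r.fact C.M && Nat.beq a.1 r.vn && leq a.2 r.w && Nat.beq b.1 r.vl && leq b.2 r.x &&
  okP r.w && CTab.okC r.x && C.isLine r.vl && !C.isLine r.vn && Nat.blt r.vl C.V.length &&
  Nat.blt r.pos C.nodes.length && Nat.beq (C.nodes.getD r.pos 0) r.vn &&
  ((List.range r.cg.length).all fun i =>
    let c := r.cg.getD i []
    okH c && CTab.okC c &&
      pEq (r.w ++ c) (genW (C.vtx r.vn).gens (r.witN.getD i []) ++ r.w) &&
      cEq C.D.T (r.x ++ c) (genW (C.vtx r.vl).gens (r.witL.getD i []) ++ r.x))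

end Model

/-- The blocks of `P`. -/
noncomputable def pSide : Side ThP.P where
  ev := ThP.val
  ok := okP
  eqW := pEq
  rep b := invWord (ThP.transWord b)
  n := 819
  κ := MonoidHom.id _
  ev_append := val_append
  ev_nil := val_nil
  ev_inv := val_invWord
  eqW_sound _ _ h := pEq_val h
  κ_val _ _ := rfl

/-- The blocks of `⟨a, c, d, e, s, t, u⟩`. -/
noncomputable def cSide (T : CTab) (hT : T.OK) : Side G where
  ev := el
  ok _ := true
  eqW := cEq T
  rep j := invWord (T.rep j)
  n := 120
  κ := ThP.toTh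
  ev_append := el_append
  ev_nil := el_nil
  ev_inv u _ := el_invWord u
  eqW_sound _ _ h := cEq_el hT h
  κ_val k hk := (el_eq_toTh k (okH_okP hk)).symm

theorem okP_transWord {b : ℕ} (hb : b < 819) : okP (ThP.transWord b) = true :=
  okP_iff.2 (ThP.transWord_spec b hb).1

theorem pSide_dec (p : ThP.P) : pSide.Dec p := by
  obtain ⟨c, hc, i, hi, he⟩ := ThP.exists_trans p⁻¹
  refine ⟨i, hi, c⁻¹, inv_mem hc, ?_⟩
  change p = ThP.val (invWord (ThP.transWord i)) * c⁻¹
  rw [val_invWord _ (okP_transWord hi), ← mul_inv_rev, ← he, inv_inv]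

theorem pSide_sep : pSide.Sep where
  κ_inj := Function.injective_id
  uniq := by
    intro b hb b' hb' k hk k' hk' h
    change b < 819 at hb
    change b' < 819 at hb'
    change ThP.val (invWord (ThP.transWord b)) * k = ThP.val (invWord (ThP.transWord b')) * k' at h
    rw [val_invWord _ (okP_transWord hb), val_invWord _ (okP_transWord hb')] at h
    have key : ∀ (i : ℕ) (hi : i < 819) (c : ThP.P), c ∈ ThP.subC →
        (ThP.act (c * ThP.val (ThP.transWord i)))⁻¹ (⟨0, by omega⟩ : Fin 819) = ⟨i, hi⟩ := by
      intro i hi c hc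
      rw [map_mul, mul_inv_rev, Equiv.Perm.mul_apply,
        show (ThP.act c)⁻¹ (⟨0, by omega⟩ : Fin 819) = ⟨0, by omega⟩ by
          rw [← map_inv]; exact (ThP.mem_subC_iff _).1 (inv_mem hc)]
      exact Fin.ext (by
        rw [ThP.act_word _ (ThP.transWord_spec i hi).1]; exact (ThP.transWord_spec i hi).2)
    have h' := congrArg (fun x : ThP.P => x⁻¹) h
    simp only [mul_inv_rev, inv_inv] at h'
    have e1 := key b hb _ (inv_mem hk)
    rw [h', key b' hb' _ (inv_mem hk')] at e1
    exact (Fin.mk.inj e1).symm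

/-- Words of `H₀`. -/
theorem exists_hWord {k : ThP.P} (hk : k ∈ ThP.subC) :
    ∃ l : List ℕ, okH l = true ∧ CTab.okC l = true ∧ ThP.val l = k := by
  have hk' : k ∈ Submonoid.closure {x | ∃ l ∈ ThP.Index.subWords, (l.map (ThP.letters.phi ThP.pres)).prod = x} := by
    rw [← Subgroup.closure_toSubmonoid_of_finite]
    exact hk
  clear hk
  induction hk' using Submonoid.closure_induction with
  | mem x hx =>
    obtain ⟨l, hl, rfl⟩ := hx
    refine ⟨l, ?_, ?_, rfl⟩ <;>
      · revert l hl
        decide +kernel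
  | one => exact ⟨[], by decide +kernel, rfl, val_nil⟩
  | mul x y _ _ hx hy =>
    obtain ⟨u, hu, hu', rfl⟩ := hx
    obtain ⟨v, hv, hv', rfl⟩ := hy
    refine ⟨u ++ v, ?_, ?_, val_append u v⟩
    · simp only [okH, Bool.and_eq_true, Nat.beq_eq] at hu hv ⊢
      exact ⟨okP_append hu.1 hv.1, by rw [scan_append, hu.2, hv.2]⟩
    · simp only [CTab.okC, List.all_append, Bool.and_eq_true]; exact ⟨hu', hv'⟩

end Cfsg.Agent.Lib.ThDce
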