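import Cfsg.Agent.Lib.ThDce.Cert

/-!
When `u` lies outside the image of `P`, that image is faithful and the 120 cosets of `H₀` in
`⟨a, c, d, e, s, t, u⟩` stay distinct.
-/

set_option autoImplicit false

namespace Cfsg.Agent.Lib.ThDce

open Cfsg.Agent.Lib.CosetEnum Cfsg.Agent.Lib.ExactCover

/-- `u` is not in the image of `P`. -/
def UOut : Prop := el [14] ∉ ThP.toTh.range

theorem el_one_of_ker {l : List ℕ} (hl : okP l = true) (h : ThP.val l ∈ ThP.toTh.ker) : el l = 1 := by
  rw [el_eq_toTh l hl]; exact h

theorem toTh_injective (hu : UOut) : Function.Injective ThP.toTh := by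
  rw [← MonoidHom.ker_eq_bot_iff]
  by_contra hne
  have hD : ThP.DSimple.subD ≤ ThP.toTh.ker := by
    rcases ThP.DSimple.normal_cases _ (MonoidHom.normal_ker ThP.toTh) with h | h | h
    · exact absurd h hne
    · exact h.ge
    · rw [h]; exact le_top
  have ha : el [0] = 1 := el_one_of_ker rfl (hD (by
    rw [ThP.DSimple.val_singleton]; exact Subgroup.subset_closure (by simp)))
  have hc : el [4] = 1 := el_one_of_ker rfl (hD (by
    rw [ThP.DSimple.val_singleton]; exact Subgroup.subset_closure (by simp)))
  have hs : el [10] = 1 := el_one_of_ker rfl (hD (by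
    rw [ThP.DSimple.val_singleton]; exact Subgroup.subset_closure (by simp)))
  have i0 : el [1] = 1 := by rw [show ([1] : List ℕ) = [ExactCover.flip 0] from rfl, el_flip, ha, inv_one]
  have i4 : el [5] = 1 := by rw [show ([5] : List ℕ) = [ExactCover.flip 4] from rfl, el_flip, hc, inv_one]
  have is' : el [11] = 1 := by
    rw [show ([11] : List ℕ) = [ExactCover.flip 10] from rfl, el_flip, hs, inv_one]
  -- `u² = ac` and `(us)³ = ac`
  have h2 : el [14, 14, 5, 1] = 1 := el_rel (by decide +kernel)
  have h3 : el [0, 4, 11, 15, 11, 15, 11, 15] = 1 := el_rel (by decide +kernel)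
  rw [show ([14, 14, 5, 1] : List ℕ) = [14] ++ [14] ++ [5] ++ [1] from rfl] at h2
  rw [show ([0, 4, 11, 15, 11, 15, 11, 15] : List ℕ) =
    [0] ++ [4] ++ [11] ++ [15] ++ [11] ++ [15] ++ [11] ++ [15] from rfl] at h3
  simp only [el_append, ha, hc, i0, i4, is', one_mul, mul_one] at h2 h3
  have hflip : el [15] = (el [14])⁻¹ := by rw [← el_flip]; rfl
  have h22 : el [14] * el [14] = 1 := h2
  rw [hflip, inv_eq_of_mul_eq_one_right h22, h22, one_mul] at h3
  exact hu (h3 ▸ one_mem _)

/-- The word of a list of segments, `none` standing for `r`. -/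
def segWord (r : List ℕ) : List (Option (List ℕ)) → List ℕ
  | [] => []
  | none :: s => r ++ segWord r s
  | some h :: s => h ++ segWord r s

/-- Representative `m` and `P` generate `u`. -/
noncomputable def checkGenU (T : CTab) (W : List (List (Option (List ℕ)))) (m : ℕ) : Bool :=
  Nat.beq m 0 || ((W.getD m []).all (fun s => match s with | none => true | some h => okP h) &&
    cEq T (segWord (T.rep m) (W.getD m [])) [14])

/-- Two distinct cosets differ by a coset other than the first. -/
noncomputable def checkPair (T : CTab) (b : ℕ) : Bool :=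
  allBelow 120 fun b' => Nat.beq b b' || !Nat.beq (T.run (T.rep b' ++ invWord (T.rep b)) 0).1 0

theorem okC_invWord {w : List ℕ} (hw : CTab.okC w = true) : CTab.okC (invWord w) = true := by
  simp only [CTab.okC, List.all_eq_true] at hw ⊢
  intro x hx
  obtain ⟨y, hy, rfl⟩ := List.mem_map.1 (List.mem_reverse.1 hx)
  have h := hw y hy
  simp only [CTab.okLetter, Bool.and_eq_true, Nat.blt_eq, Bool.not_eq_true', Nat.beq_eq,
    ← Bool.not_eq_true] at h ⊢
  unfold ExactCover.flip
  split <;> omega

theorem segWord_mem {r : List ℕ} (hr : el r ∈ ThP.toTh.range) : ∀ s : List (Option (List ℕ)),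
    (s.all (fun x => match x with | none => true | some h => okP h)) = true →
      el (segWord r s) ∈ ThP.toTh.range := by
  intro s
  induction s with
  | nil => intro _; simp [segWord, el_nil, one_mem]
  | cons x s ih =>
    intro h
    simp only [List.all_cons, Bool.and_eq_true] at h
    cases x with
    | none => rw [segWord, el_append]; exact mul_mem hr (ih h.2)
    | some g => rw [segWord, el_append]; exact mul_mem (el_mem_range h.1) (ih h.2)

theorem rep_sep {T : CTab} (hT : T.OK) {W : List (List (Option (List ℕ)))}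
    (hW : allBelow 120 (checkGenU T W) = true) (hu : UOut) {m : ℕ} (hm : m < 120)
    (h : el (T.rep m) ∈ ThP.toTh.range) : m = 0 := by
  have hc := allBelow_iff.1 hW m hm
  simp only [checkGenU, Bool.or_eq_true, Nat.beq_eq, Bool.and_eq_true] at hc
  rcases hc with hc | ⟨h1, h2⟩
  · exact hc
  · exfalso
    apply hu
    rw [← cEq_el hT h2]
    exact segWord_mem h _ h1

theorem cSide_sep {T : CTab} (hT : T.OK) {W : List (List (Option (List ℕ)))}
    (hW : allBelow 120 (checkGenU T W) = true) (hP : allBelow 120 (checkPair T) = true) (hu : UOut) :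
    (cSide T hT).Sep where
  κ_inj := toTh_injective hu
  uniq := by
    intro b hb b' hb' k hk k' hk' h
    change b < 120 at hb
    change b' < 120 at hb'
    change el (invWord (T.rep b)) * ThP.toTh k = el (invWord (T.rep b')) * ThP.toTh k' at h
    have hw : CTab.okC (T.rep b' ++ invWord (T.rep b)) = true := by
      simp only [CTab.okC, List.all_append, Bool.and_eq_true]
      exact ⟨hT.repOK b' hb', okC_invWord (hT.repOK b hb)⟩
    obtain ⟨h1, h2, -, h4⟩ := CTab.run_sound hT _ 0 hw (by omega)
    rw [hT.rep0, el_nil, one_mul, el_append, el_invWord] at h4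
    have hm : el (T.rep (T.run (T.rep b' ++ invWord (T.rep b)) 0).1) ∈ ThP.toTh.range := by
      rw [el_invWord, el_invWord] at h
      have e : el (T.rep b') * (el (T.rep b))⁻¹ = ThP.toTh k' * (ThP.toTh k)⁻¹ := by
        calc el (T.rep b') * (el (T.rep b))⁻¹
            = el (T.rep b') * ((el (T.rep b))⁻¹ * ThP.toTh k) * (ThP.toTh k)⁻¹ := by group
          _ = ThP.toTh k' * (ThP.toTh k)⁻¹ := by rw [h]; group
      rw [e, ← map_inv, ← map_mul] at h4
      have := ThP.toTh.range.mul_mem (ThP.toTh.range.inv_mem (el_mem_range h2))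
        (h4 ▸ (⟨_, rfl⟩ : ThP.toTh (k' * k⁻¹) ∈ ThP.toTh.range))
      simpa using this
    have hm0 := rep_sep hT hW hu h1 hm
    have hp := allBelow_iff.1 (allBelow_iff.1 hP b hb) b' hb'
    simp only [Bool.or_eq_true, Nat.beq_eq, Bool.not_eq_true', ← Bool.not_eq_true] at hp
    exact hp.resolve_right (fun hne => hne hm0)

end Cfsg.Agent.Lib.ThDce
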