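import Cfsg.Agent.Lib.ThDce.Upper
import Cfsg.Agent.Lib.ThDce.Data.Extra
import Cfsg.Agent.Lib.ThRep.Main
import Cfsg.Prelude.Def_Sporadic

/-! The index, order and simplicity of the presented Thompson group. -/

set_option autoImplicit false

namespace Cfsg.Agent.Lib.ThDce

open Cfsg.Agent.Lib.CosetEnum

theorem range_toTh_eq : ThP.toTh.range = Subgroup.closure
    ({PresentedGroup.of .a, PresentedGroup.of .b, PresentedGroup.of .c, PresentedGroup.of .d,
      PresentedGroup.of .e, PresentedGroup.of .s, PresentedGroup.of .t} : Set Cfsg.Spor.Th) := by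
  rw [ThP.range_toTh, MonoidHom.map_closure]
  simp only [Set.image_insert_eq, Set.image_singleton]
  rfl

/-- `u` lies outside the image of `P`, as the 248-dimensional representation shows. -/
theorem uOut : UOut := fun hm => ThRep.rho_u_not_mem (by
  rw [← range_toTh_eq]
  exact Subgroup.mem_map_of_mem _ hm)

theorem toTh_inj : Function.Injective ThP.toTh := toTh_injective uOut

theorem sepData : Data.cert.SepData where
  hu := uOut
  sep := cSide_sep Data.cert.tab Data.seg_ok' Data.pair_ok' uOut
  fin := finite_Th

theorem card_points : Nat.card Data.cert.XPt = 143127000 := by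
  rw [Cert.card_XPt]
  change ∑ i : Fin 11, (pSide.stab (Data.cert.C.vtx (Data.cert.nd i.1))).index = 143127000
  have key : ∀ (H : Subgroup ThP.P) (c : ℕ), Nat.card H = c → 0 < c → H.index = 634023936 / c := by
    intro H c hc h0
    have := H.card_mul_index
    rw [hc, ThP.card_P] at this
    rw [← this, Nat.mul_div_cancel_left _ h0]
  have h0 : (pSide.stab (Data.cert.C.vtx (Data.cert.nd 0))).index = 1 :=
    Subgroup.index_eq_one.2 (Data.cert.base_stab Data.prim_ok')
  simp only [Fin.sum_univ_succ, Finset.univ_eq_empty, Finset.sum_empty, Fin.val_succ, Fin.val_zero]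
  norm_num only
  rw [h0, key _ _ Data.card1 (by norm_num), key _ _ Data.card2 (by norm_num),
    key _ _ Data.card3 (by norm_num), key _ _ Data.card4 (by norm_num), key _ _ Data.card5 (by norm_num),
    key _ _ Data.card6 (by norm_num), key _ _ Data.card7 (by norm_num), key _ _ Data.card8 (by norm_num),
    key _ _ Data.card9 (by norm_num), key _ _ Data.card10 (by norm_num)]
  norm_num

theorem index_toTh : ThP.toTh.range.index = 143127000 :=
  (Data.cert.index_range sepData Data.back_ok' Data.prim_ok').trans card_points

theorem card_Th : Nat.card Cfsg.Spor.Th = 90745943887872000 :=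
  (Data.cert.card_G sepData Data.back_ok' Data.prim_ok' _ card_points).trans (by norm_num)

theorem isSimple_Th : IsSimpleGroup Cfsg.Spor.Th :=
  Data.cert.isSimple sepData Data.back_ok' Data.prim_ok'
    ⟨1, show (1 : ℕ) < 11 by norm_num⟩ (by rw [Data.card1]; norm_num)

theorem isTh_Th : Cfsg.IsTh Cfsg.Spor.Th := ⟨isSimple_Th, card_Th⟩

end Cfsg.Agent.Lib.ThDce
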