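import Cfsg.Agent.Lib.ThDce.Sep

/-!
The points of the enumeration (cosets of the node stabilisers), the actions of the generators on them, and
the equivariant map to the cosets of the image of `P`.
-/

set_option autoImplicit false

namespace Cfsg.Agent.Lib.ThDce

open Cfsg.Agent.Lib.CosetEnum Cfsg.Agent.Lib.ExactCover

namespace Cert

variable (F : Cert)

/-- The hypotheses of exactness: `u` outside the image of `P`, and the separation of the blocks. -/
structure SepData : Prop where
  hu : UOut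
  sep : F.cS.Sep
  fin : Finite G

/-- The points: node and coset of its stabiliser. -/
abbrev XPt : Type := Σ i : Fin F.C.nodes.length, ThP.P ⧸ pSide.stab (F.C.vtx (F.nd i.1))

/-- The point of an element at a node. -/
noncomputable def pt (i : Fin F.C.nodes.length) (p : ThP.P) : F.XPt := ⟨i, QuotientGroup.mk p⁻¹⟩

theorem pt_eq_iff (i : Fin F.C.nodes.length) (p q : ThP.P) :
    F.pt i p = F.pt i q ↔ p * q⁻¹ ∈ pSide.stab (F.C.vtx (F.nd i.1)) := by
  simp [pt, QuotientGroup.eq]

theorem pt_surjective (x : F.XPt) : ∃ i p, F.pt i p = x := by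
  obtain ⟨i, q⟩ := x
  induction q using QuotientGroup.induction_on with
  | H z => exact ⟨i, z⁻¹, by simp [pt]⟩

/-- The base point. -/
noncomputable def base : F.XPt := F.pt ⟨0, F.node0.1⟩ 1

noncomputable instance : Inhabited F.XPt := ⟨F.base⟩

/-- Right translation. -/
noncomputable def right (p : ThP.P) (x : F.XPt) : F.XPt := ⟨x.1, p⁻¹ • x.2⟩

theorem right_pt (i : Fin F.C.nodes.length) (p q : ThP.P) :
    F.right q (F.pt i p) = F.pt i (p * q) := by
  simp only [right, pt, mul_inv_rev]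
  rfl

/-- The point at the node end of a flag, translated. -/
noncomputable def atNode (f : ℕ) (k : ThP.P) : F.XPt :=
  if h : (F.C.flag f).pos < F.C.nodes.length then F.pt ⟨_, h⟩ (ThP.val (F.C.flag f).w * k) else F.base

/-- From an element at a line to the node end of its flag. -/
noncomputable def fromLine (m : ℕ) (a : G) : F.XPt := F.cS.ext (F.C.vtx m) F.atNode a

/-- From a flag at a node through the line after `u`. -/
noncomputable def viaU (f : ℕ) (k : ThP.P) : F.XPt :=
  F.fromLine (F.C.flag f).vl (el (F.C.flag f).x * ThP.toTh k * el [14])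

/-- The image under `u` of an element at a node. -/
noncomputable def atU (i : ℕ) (p : ThP.P) : F.XPt := pSide.ext (F.C.vtx (F.nd i)) F.viaU p

theorem pt_congr {i j : Fin F.C.nodes.length} (h : i = j) (p : ThP.P) : F.pt i p = F.pt j p := by rw [h]

theorem atNode_inv {v : ℕ} (hv : v < F.C.V.length) (hl : F.C.isLine v = true) :
    Side.Invariant F.C.FL (F.C.vtx v) F.atNode := by
  refine Side.invariant_of_gens (fun f hf c hc => ?_) (fun f hf c hc k _ => ?_)
  · exact ((F.flag_facts (F.line_flag hv hl hf).1).cgH c hc).1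
  · have hF := F.flag_facts (F.line_flag hv hl hf).1
    obtain ⟨σ, hσ, e⟩ := hF.witN c hc
    simp only [atNode, dif_pos hF.pos]
    rw [pt_eq_iff]
    change ThP.val (F.C.flag f).w * (ThP.val c * k) * (ThP.val (F.C.flag f).w * k)⁻¹ ∈
      pSide.stab (F.C.vtx (F.nd (F.C.flag f).pos))
    rw [hF.nd, ← mul_assoc, e]
    convert hσ using 1
    group

theorem fromLine_stab (h : F.SepData) {v : ℕ} (hv : v < F.C.V.length) (hl : F.C.isLine v = true) {σ : G}
    (hσ : σ ∈ F.cS.stab (F.C.vtx v)) {a : G} (ha : F.cS.Dec a) :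
    F.fromLine v (σ * a) = F.fromLine v a :=
  haveI := h.fin
  (Side.ext_stab (F.lineOK v hv hl) h.sep (F.atNode_inv hv hl) hσ ha).2

theorem fromLine_flag (h : F.SepData) {v : ℕ} (hv : v < F.C.V.length) (hl : F.C.isLine v = true) {f : ℕ}
    (hf : f ∈ (F.C.vtx v).flags) {k : ThP.P} (hk : k ∈ ThP.subC) :
    F.fromLine v (el (F.C.flag f).x * ThP.toTh k) = F.atNode f k :=
  Side.ext_flag (F.lineOK v hv hl) h.sep _ hf hk

theorem viaU_inv (h : F.SepData) {i : ℕ} (hi : i < F.C.nodes.length) :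
    Side.Invariant F.C.FN (F.C.vtx (F.nd i)) F.viaU := by
  refine Side.invariant_of_gens (fun f hf c hc => ?_) (fun f hf c hc k hk => ?_)
  · exact ((F.flag_facts (F.node_flag hi hf).1).cgH c hc).1
  · have hlt := (F.node_flag hi hf).1
    have hF := F.flag_facts hlt
    obtain ⟨σ, hσ, e⟩ := hF.witL c hc
    have hc' := el_eq_toTh c (okH_okP (hF.cgH c hc).1)
    simp only [viaU, map_mul, ← hc', ← mul_assoc, e]
    rw [mul_assoc σ, mul_assoc σ]
    exact F.fromLine_stab h hF.lt hF.line hσ (F.u_step_dec hlt hk)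

theorem atU_stab (h : F.SepData) {i : ℕ} (hi : i < F.C.nodes.length) {σ : ThP.P}
    (hσ : σ ∈ pSide.stab (F.C.vtx (F.nd i))) (p : ThP.P) : F.atU i (σ * p) = F.atU i p :=
  (Side.ext_stab (F.nodeOK i hi) pSide_sep (F.viaU_inv h hi) hσ (pSide_dec p)).2

theorem atU_flag {i : ℕ} (hi : i < F.C.nodes.length) {f : ℕ} (hf : f ∈ (F.C.vtx (F.nd i)).flags) {k : ThP.P}
    (hk : k ∈ ThP.subC) : F.atU i (ThP.val (F.C.flag f).w * k) = F.viaU f k :=
  Side.ext_flag (F.nodeOK i hi) pSide_sep _ hf hk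

/-- The map of points given by `u`. -/
noncomputable def uMap (h : F.SepData) (x : F.XPt) : F.XPt :=
  Quotient.liftOn' x.2 (fun q => F.atU x.1.1 q⁻¹) (fun q q' hq => by
    rw [QuotientGroup.leftRel_apply] at hq
    have e : q⁻¹ = (q⁻¹ * q') * q'⁻¹ := by group
    change F.atU x.1.1 q⁻¹ = F.atU x.1.1 q'⁻¹
    conv_lhs => rw [e]
    exact F.atU_stab h x.1.2 hq q'⁻¹)

theorem uMap_pt (h : F.SepData) (i : Fin F.C.nodes.length) (p : ThP.P) :
    F.uMap h (F.pt i p) = F.atU i.1 p := by
  change F.atU i.1 (p⁻¹)⁻¹ = F.atU i.1 p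
  rw [inv_inv]

/-- The coset of a point. -/
noncomputable def toCoset : F.XPt → G ⧸ ThP.toTh.range := fun x =>
  Quotient.liftOn' x.2 (fun q => ((ThP.toTh q * (F.g (F.nd x.1.1))⁻¹ : G) : G ⧸ ThP.toTh.range))
    (fun q q' hq => by
      rw [QuotientGroup.leftRel_apply] at hq
      rw [QuotientGroup.eq]
      simpa [map_mul, mul_assoc] using F.node_stab x.1.2 hq)

theorem toCoset_pt (i : Fin F.C.nodes.length) (p : ThP.P) :
    F.toCoset (F.pt i p) = (((F.g (F.nd i.1) * ThP.toTh p)⁻¹ : G) : G ⧸ ThP.toTh.range) := by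
  change ((ThP.toTh p⁻¹ * (F.g (F.nd i.1))⁻¹ : G) : G ⧸ ThP.toTh.range) = _
  rw [map_inv, mul_inv_rev]

theorem toCoset_base : F.toCoset F.base = ((1 : G) : G ⧸ ThP.toTh.range) := by
  rw [base, toCoset_pt, map_one, mul_one]
  change (((F.g (F.nd 0))⁻¹ : G) : G ⧸ ThP.toTh.range) = _
  rw [show F.nd 0 = 0 from F.node0.2, show F.g 0 = 1 from DData.rep_zero _, inv_one]

theorem toCoset_right (q : ThP.P) (x : F.XPt) :
    F.toCoset (F.right q x) = (ThP.toTh q)⁻¹ • F.toCoset x := by
  obtain ⟨i, p, rfl⟩ := F.pt_surjective x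
  rw [right_pt, toCoset_pt, toCoset_pt, MulAction.Quotient.smul_coe]
  simp [map_mul, mul_assoc]

theorem toCoset_uMap (h : F.SepData) (x : F.XPt) :
    F.toCoset (F.uMap h x) = (el [14])⁻¹ • F.toCoset x := by
  obtain ⟨i, p, rfl⟩ := F.pt_surjective x
  obtain ⟨σ, hσ, f, hf, k, hk, e⟩ := Side.cover (F.nodeOK i.1 i.2) (pSide_dec p)
  change p = σ * ThP.val (F.C.flag f).w * k at e
  obtain ⟨hlt, hvn⟩ := F.node_flag i.2 hf
  have hF := F.flag_facts hlt
  obtain ⟨τ, hτ, f', hf', k', hk', e', hR⟩ := F.u_step hlt hk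
  obtain ⟨hlt', -⟩ := F.line_flag hF.lt hF.line hf'
  have hF' := F.flag_facts hlt'
  have himg : F.uMap h (F.pt i p) = F.pt ⟨_, hF'.pos⟩ (ThP.val (F.C.flag f').w * k') := by
    rw [uMap_pt, e, mul_assoc, F.atU_stab h i.2 hσ, F.atU_flag i.2 hf hk, viaU, e', mul_assoc τ]
    have hdec : F.cS.Dec (el (F.C.flag f').x * ThP.toTh k') := by
      obtain ⟨l, hl, hl', rfl⟩ := exists_hWord hk'
      rw [← el_eq_toTh l (okH_okP hl), ← el_append]
      refine F.cDec ?_
      simp only [CTab.okC, List.all_append, Bool.and_eq_true]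
      exact ⟨hF'.okx, hl'⟩
    rw [F.fromLine_stab h hF.lt hF.line hτ hdec, F.fromLine_flag h hF.lt hF.line hf' hk', atNode,
      dif_pos hF'.pos]
  rw [himg, toCoset_pt, toCoset_pt, MulAction.Quotient.smul_coe, QuotientGroup.eq]
  change ((F.g (F.nd (F.C.flag f').pos) * ThP.toTh (ThP.val (F.C.flag f').w * k'))⁻¹)⁻¹ *
    ((el [14])⁻¹ * (F.g (F.nd i.1) * ThP.toTh p)⁻¹) ∈ ThP.toTh.range
  rw [hF'.nd, map_mul, ← el_eq_toTh _ hF'.okw, e]
  rw [hvn, el_eq_toTh _ hF.okw] at hR
  have := ThP.toTh.range.inv_mem (ThP.toTh.range.mul_mem (F.node_stab i.2 hσ) hR)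
  convert this using 1
  simp only [map_mul]
  group

theorem toCoset_surjective : Function.Surjective F.toCoset := by
  intro c
  induction c using QuotientGroup.induction_on with
  | H z =>
    obtain ⟨i, hi, p, h⟩ := F.U_top z⁻¹
    refine ⟨F.pt ⟨i, hi⟩ p, ?_⟩
    rw [toCoset_pt, QuotientGroup.eq]
    simpa [mul_assoc] using ThP.toTh.range.inv_mem h

/-- The map of points given by a letter. -/
noncomputable def step (h : F.SepData) (g : ℕ) (x : F.XPt) : F.XPt :=
  if g < 14 then F.right (ThP.val [g]) x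
  else if g = 14 then F.uMap h x else F.right (ThP.val [5, 1]) (F.uMap h x)

/-- The map of points given by a word. -/
noncomputable def actW (h : F.SepData) : List ℕ → F.XPt → F.XPt
  | [], x => x
  | g :: w, x => actW h w (F.step h g x)

theorem actW_append (h : F.SepData) : ∀ (u v : List ℕ) (x : F.XPt),
    F.actW h (u ++ v) x = F.actW h v (F.actW h u x)
  | [], _, _ => rfl
  | g :: u, v, x => by rw [List.cons_append, actW, actW, actW_append h u v]

theorem toCoset_step (h : F.SepData) {g : ℕ} (hg : g < 16) (x : F.XPt) :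
    F.toCoset (F.step h g x) = (el [g])⁻¹ • F.toCoset x := by
  unfold step
  split
  · rename_i hg'
    rw [toCoset_right, el_eq_toTh [g] (okP_iff.2 (by simpa using hg'))]
  · split
    · rename_i hg'; subst hg'; exact F.toCoset_uMap h x
    · have hg15 : g = 15 := by omega
      subst hg15
      rw [toCoset_right, toCoset_uMap, ← el_eq_toTh [5, 1] rfl, ← mul_smul, ← mul_inv_rev, ← u_inv]
      congr 1

theorem toCoset_actW (h : F.SepData) : ∀ (w : List ℕ) (x : F.XPt), (∀ g ∈ w, g < 16) →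
    F.toCoset (F.actW h w x) = (el w)⁻¹ • F.toCoset x
  | [], x, _ => by rw [actW, el_nil, inv_one, one_smul]
  | g :: w, x, hw => by
    rw [actW, toCoset_actW h w _ (fun y hy => hw y (List.mem_cons_of_mem _ hy)),
      F.toCoset_step h (hw g List.mem_cons_self), el_cons g w, mul_inv_rev, mul_smul]

end Cert

end Cfsg.Agent.Lib.ThDce
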