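import Cfsg.Agent.Lib.ThDce.Model

/-!
Consequences of a checked certificate that need nothing else: the union of the listed double cosets is the
whole Thompson group, which is therefore finite.
-/

set_option autoImplicit false

namespace Cfsg.Agent.Lib.ThDce

open Cfsg.Agent.Lib.CosetEnum Cfsg.Agent.Lib.ExactCover

/-- A checked certificate. -/
structure Cert where
  C : Model
  tab : C.D.T.OK
  facts : ∀ i < C.M, C.D.check i = true
  vtx : ∀ v < C.V.length, C.checkVtx v = true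
  flg : ∀ f < C.flags.length, C.checkFlag f = true
  node : ∀ i < C.nodes.length, C.nodes.getD i 0 < C.V.length ∧ C.isLine (C.nodes.getD i 0) = false
  node0 : 0 < C.nodes.length ∧ C.nodes.getD 0 0 = 0
  nodeOK : ∀ i < C.nodes.length, pSide.VOK C.FN (C.vtx (C.nodes.getD i 0))
  lineOK : ∀ v < C.V.length, C.isLine v = true → (cSide C.D.T tab).VOK C.FL (C.vtx v)

namespace Cert

variable (F : Cert)

/-- The side of the lines. -/
noncomputable abbrev cS : Side G := cSide F.C.D.T F.tab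

/-- The representative of a vertex. -/
noncomputable abbrev g (v : ℕ) : G := F.C.D.rep v

/-- The vertex of a node. -/
abbrev nd (i : ℕ) : ℕ := F.C.nodes.getD i 0

theorem rel_fact {i : ℕ} (hi : i < F.C.M) : F.C.D.Rel (F.C.D.fact i) :=
  DData.check_sound F.tab F.facts i hi

theorem vtx_gen {v : ℕ} (hv : v < F.C.V.length) {w : List ℕ} (hw : w ∈ (F.C.vtx v).gens) :
    F.g v * el w * (F.g v)⁻¹ ∈ ThP.toTh.range := by
  obtain ⟨j, hj, rfl⟩ := List.mem_iff_getElem.1 hw
  have h := F.vtx v hv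
  simp only [Model.checkVtx, Bool.and_eq_true, List.all_eq_true, List.mem_range] at h
  obtain ⟨⟨⟨h1, h2⟩, h3⟩, h4⟩ := h.1 j hj
  simp only [Nat.blt_eq, Nat.beq_eq] at h1 h2 h3
  rw [List.getD_eq_getElem _ _ hj] at h4
  have hR := F.rel_fact h1
  simp only [DData.Rel, h2, h3] at hR
  rw [leq_eq h4, el_append, el_invWord]
  simpa [mul_assoc] using hR

theorem line_stab {v : ℕ} (hv : v < F.C.V.length) {σ : G} (hσ : σ ∈ F.cS.stab (F.C.vtx v)) :
    F.g v * σ * (F.g v)⁻¹ ∈ ThP.toTh.range := by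
  induction hσ using Subgroup.closure_induction with
  | mem x hx =>
    obtain ⟨w, hw, rfl⟩ := hx
    exact F.vtx_gen hv hw
  | one => simp
  | mul x y _ _ hx hy =>
    have := ThP.toTh.range.mul_mem hx hy
    simpa [mul_assoc] using this
  | inv x _ hx =>
    have := ThP.toTh.range.inv_mem hx
    simpa [mul_assoc] using this

theorem node_stab {i : ℕ} (hi : i < F.C.nodes.length) {σ : ThP.P}
    (hσ : σ ∈ pSide.stab (F.C.vtx (F.nd i))) :
    F.g (F.nd i) * ThP.toTh σ * (F.g (F.nd i))⁻¹ ∈ ThP.toTh.range := by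
  induction hσ using Subgroup.closure_induction with
  | mem x hx =>
    obtain ⟨w, hw, rfl⟩ := hx
    have h := F.vtx_gen (F.node i hi).1 hw
    rwa [el_eq_toTh w (Side.gens_ok (F.nodeOK i hi) w hw)] at h
  | one => simp
  | mul x y _ _ hx hy =>
    have := ThP.toTh.range.mul_mem hx hy
    simpa [mul_assoc] using this
  | inv x _ hx =>
    have := ThP.toTh.range.inv_mem hx
    simpa [mul_assoc] using this

/-- What a checked flag gives. -/
structure FlagFacts (f : ℕ) : Prop where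
  rel : F.g (F.C.flag f).vn * el (F.C.flag f).w *
    (F.g (F.C.flag f).vl * el (F.C.flag f).x)⁻¹ ∈ ThP.toTh.range
  okw : okP (F.C.flag f).w = true
  okx : CTab.okC (F.C.flag f).x = true
  line : F.C.isLine (F.C.flag f).vl = true
  lt : (F.C.flag f).vl < F.C.V.length
  pos : (F.C.flag f).pos < F.C.nodes.length
  nd : F.nd (F.C.flag f).pos = (F.C.flag f).vn
  cgH : ∀ c ∈ (F.C.flag f).cg, okH c = true ∧ CTab.okC c = true
  witN : ∀ c ∈ (F.C.flag f).cg, ∃ σ ∈ pSide.stab (F.C.vtx (F.C.flag f).vn),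
    ThP.val (F.C.flag f).w * ThP.val c = σ * ThP.val (F.C.flag f).w
  witL : ∀ c ∈ (F.C.flag f).cg, ∃ σ ∈ F.cS.stab (F.C.vtx (F.C.flag f).vl),
    el (F.C.flag f).x * el c = σ * el (F.C.flag f).x

theorem flag_facts {f : ℕ} (hf : f < F.C.flags.length) : F.FlagFacts f := by
  have h := F.flg f hf
  simp only [Model.checkFlag, Bool.and_eq_true, List.all_eq_true, List.mem_range] at h
  obtain ⟨⟨⟨⟨⟨⟨⟨⟨⟨⟨⟨⟨h1, h2⟩, h3⟩, h4⟩, h5⟩, h6⟩, h7⟩, h8⟩, -⟩, h9⟩, h10⟩, h11⟩, h12⟩ := h
  simp only [Nat.blt_eq, Nat.beq_eq] at h1 h2 h4 h9 h10 h11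
  have hR := F.rel_fact h1
  have hrel : F.g (F.C.flag f).vn * el (F.C.flag f).w *
      (F.g (F.C.flag f).vl * el (F.C.flag f).x)⁻¹ ∈ ThP.toTh.range := by
    cases hr : (F.C.flag f).rev with
    | false =>
      simp only [hr, cond_false] at h2 h3 h4 h5
      rw [DData.Rel, h2, leq_eq h3, h4, leq_eq h5] at hR
      exact hR
    | true =>
      simp only [hr, cond_true] at h2 h3 h4 h5
      rw [DData.Rel, h2, leq_eq h3, h4, leq_eq h5] at hR
      simpa [mul_assoc] using ThP.toTh.range.inv_mem hR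
  have hw : ∀ c ∈ (F.C.flag f).cg, ∃ i < (F.C.flag f).cg.length, (F.C.flag f).cg.getD i [] = c := by
    intro c hc
    obtain ⟨i, hi, rfl⟩ := List.mem_iff_getElem.1 hc
    exact ⟨i, hi, List.getD_eq_getElem _ _ hi⟩
  refine ⟨hrel, h6, h7, h8, h9, h10, h11, fun c hc => ?_, fun c hc => ?_, fun c hc => ?_⟩
  · obtain ⟨i, hi, rfl⟩ := hw c hc
    exact ⟨(h12 i hi).1.1.1, (h12 i hi).1.1.2⟩
  · obtain ⟨i, hi, rfl⟩ := hw c hc
    have hVn : pSide.VOK F.C.FN (F.C.vtx (F.C.flag f).vn) := h11 ▸ F.nodeOK _ h10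
    refine ⟨_, Side.genW_spec (Side.gens_ok hVn) ((F.C.flag f).witN.getD i []), ?_⟩
    · have := pEq_val (h12 i hi).1.2
      rw [val_append, val_append] at this
      exact this
  · obtain ⟨i, hi, rfl⟩ := hw c hc
    refine ⟨_, Side.genW_spec (Side.gens_ok (F.lineOK _ h9 h8)) ((F.C.flag f).witL.getD i []), ?_⟩
    have := cEq_el F.tab (h12 i hi).2
    rw [el_append, el_append] at this
    exact this

theorem node_flag {i : ℕ} (hi : i < F.C.nodes.length) {f : ℕ} (hf : f ∈ (F.C.vtx (F.nd i)).flags) :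
    f < F.C.flags.length ∧ (F.C.flag f).vn = F.nd i := by
  have h := F.vtx _ (F.node i hi).1
  simp only [Model.checkVtx, Bool.and_eq_true, List.all_eq_true, Nat.blt_eq, Nat.beq_eq] at h
  obtain ⟨h1, h2⟩ := h.2 f hf
  simp only [(F.node i hi).2, cond_false] at h2
  exact ⟨h1, h2⟩

theorem line_flag {v : ℕ} (hv : v < F.C.V.length) (hl : F.C.isLine v = true) {f : ℕ}
    (hf : f ∈ (F.C.vtx v).flags) : f < F.C.flags.length ∧ (F.C.flag f).vl = v := by
  have h := F.vtx v hv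
  simp only [Model.checkVtx, Bool.and_eq_true, List.all_eq_true, Nat.blt_eq, Nat.beq_eq] at h
  obtain ⟨h1, h2⟩ := h.2 f hf
  simp only [hl, cond_true] at h2
  exact ⟨h1, h2⟩

/-- Words of `⟨a, c, d, e, s, t, u⟩` have blocks. -/
theorem cDec {w : List ℕ} (hw : CTab.okC w = true) : F.cS.Dec (el w) := by
  have hiw : CTab.okC (invWord w) = true := by
    simp only [CTab.okC, List.all_eq_true] at hw ⊢
    intro x hx
    obtain ⟨y, hy, rfl⟩ := List.mem_map.1 (List.mem_reverse.1 hx)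
    have h := hw y hy
    simp only [CTab.okLetter, Bool.and_eq_true, Nat.blt_eq, Bool.not_eq_true', Nat.beq_eq,
      ← Bool.not_eq_true] at h ⊢
    unfold ExactCover.flip
    split <;> omega
  obtain ⟨h1, h2, h3, h4⟩ := CTab.run_sound F.tab (invWord w) 0 hiw (by omega)
  rw [F.tab.rep0, el_nil, one_mul, el_invWord, el_eq_toTh _ h2] at h4
  refine ⟨_, h1, _, inv_mem (ThP.val_mem_subC _ (okP_iff.1 h2) h3), ?_⟩
  change el w = el (invWord (F.C.D.T.rep _)) * ThP.toTh (ThP.val _)⁻¹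
  rw [el_invWord, map_inv, ← mul_inv_rev, ← h4, inv_inv]

/-- The word of a line element met when `u` is applied. -/
theorem u_step_dec {f : ℕ} (hf : f < F.C.flags.length) {k : ThP.P} (hk : k ∈ ThP.subC) :
    F.cS.Dec (el (F.C.flag f).x * ThP.toTh k * el [14]) := by
  obtain ⟨l, hl, hl', rfl⟩ := exists_hWord hk
  rw [← el_eq_toTh l (okH_okP hl), ← el_append, ← el_append]
  refine F.cDec ?_
  simp only [CTab.okC, List.all_append, Bool.and_eq_true]
  exact ⟨⟨(F.flag_facts hf).okx, hl'⟩, by decide +kernel⟩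

/-- The union of the listed double cosets. -/
def U : Set G :=
  {x | ∃ i < F.C.nodes.length, ∃ p : ThP.P, x * (F.g (F.nd i) * ThP.toTh p)⁻¹ ∈ ThP.toTh.range}

/-- The image of a flag's element under `u`, through the line. -/
theorem u_step {f : ℕ} (hf : f < F.C.flags.length) {k : ThP.P} (hk : k ∈ ThP.subC) :
    ∃ σ ∈ F.cS.stab (F.C.vtx (F.C.flag f).vl), ∃ f' ∈ (F.C.vtx (F.C.flag f).vl).flags,
      ∃ k' ∈ ThP.subC,
        el (F.C.flag f).x * ThP.toTh k * el [14] = σ * el (F.C.flag f').x * ThP.toTh k' ∧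
        F.g (F.C.flag f).vn * el (F.C.flag f).w * ThP.toTh k * el [14] *
          (F.g (F.C.flag f').vn * el (F.C.flag f').w * ThP.toTh k')⁻¹ ∈ ThP.toTh.range := by
  have hF := F.flag_facts hf
  obtain ⟨σ, hσ, f', hf', k', hk', e⟩ := Side.cover (F.lineOK _ hF.lt hF.line) (F.u_step_dec hf hk)
  refine ⟨σ, hσ, f', hf', k', hk', e, ?_⟩
  obtain ⟨hlt, hvl⟩ := F.line_flag hF.lt hF.line hf'
  have hF' := F.flag_facts hlt
  have h1 := hF.rel
  have h2 := hF'.rel
  rw [hvl] at h2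
  have h3 := F.line_stab hF.lt hσ
  have := ThP.toTh.range.mul_mem (ThP.toTh.range.mul_mem h1 h3) (ThP.toTh.range.inv_mem h2)
  have e' : el [14] = (el (F.C.flag f).x * ThP.toTh k)⁻¹ * (σ * el (F.C.flag f').x * ThP.toTh k') :=
    eq_inv_mul_of_mul_eq e
  rw [e']
  convert this using 1
  group

theorem U_mul_P {y : G} (hy : y ∈ F.U) (q : ThP.P) : y * ThP.toTh q ∈ F.U := by
  obtain ⟨i, hi, p, hy⟩ := hy
  exact ⟨i, hi, p * q, by simpa [map_mul, mul_assoc] using hy⟩

theorem U_mul_u {y : G} (hy : y ∈ F.U) : y * el [14] ∈ F.U := by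
  obtain ⟨i, hi, p, hy⟩ := hy
  obtain ⟨σ, hσ, f, hf, k, hk, e⟩ := Side.cover (F.nodeOK i hi) (pSide_dec p)
  change p = σ * ThP.val (F.C.flag f).w * k at e
  obtain ⟨hlt, hvn⟩ := F.node_flag hi hf
  obtain ⟨τ, -, f', hf', k', -, -, hR⟩ := F.u_step hlt hk
  have hF := F.flag_facts hlt
  have hlt' := (F.line_flag hF.lt hF.line hf').1
  have hF' := F.flag_facts hlt'
  refine ⟨(F.C.flag f').pos, hF'.pos, ThP.val (F.C.flag f').w * k', ?_⟩
  rw [hF'.nd, map_mul, ← el_eq_toTh _ hF'.okw]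
  rw [hvn, el_eq_toTh _ hF.okw] at hR
  have := ThP.toTh.range.mul_mem (ThP.toTh.range.mul_mem hy (F.node_stab hi hσ)) hR
  convert this using 1
  rw [e]
  simp only [map_mul]
  group

theorem gens_top : Subgroup.closure (Set.range ThP.toTh ∪ {el [14]}) = ⊤ := by
  rw [eq_top_iff, ← PresentedGroup.closure_range_of ThP.thRels, Subgroup.closure_le]
  rintro _ ⟨i, rfl⟩
  apply Subgroup.subset_closure
  have hu : el [14] = PresentedGroup.of Cfsg.Spor.Th.Gen.u := rfl
  cases i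
  case u => exact Or.inr hu.symm
  all_goals left
  · exact ⟨_, ThP.toTh_of 0⟩
  · exact ⟨_, ThP.toTh_of 1⟩
  · exact ⟨_, ThP.toTh_of 2⟩
  · exact ⟨_, ThP.toTh_of 3⟩
  · exact ⟨_, ThP.toTh_of 4⟩
  · exact ⟨_, ThP.toTh_of 5⟩
  · exact ⟨_, ThP.toTh_of 6⟩

theorem u_inv : (el [14])⁻¹ = el [14] * el [5, 1] := by
  have h : el [14, 14, 5, 1] = 1 := el_rel (by decide +kernel)
  rw [el_cons] at h
  rw [inv_eq_of_mul_eq_one_right h, el_cons 14]

theorem U_top (x : G) : x ∈ F.U := by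
  have hx : x ∈ Subgroup.closure (Set.range ThP.toTh ∪ {el [14]}) := by rw [gens_top]; trivial
  suffices ∀ y ∈ F.U, y * x ∈ F.U by
    have h1 : (1 : G) ∈ F.U := by
      refine ⟨0, F.node0.1, 1, ?_⟩
      have hg : F.g (F.nd 0) = 1 := by rw [show F.nd 0 = 0 from F.node0.2]; exact DData.rep_zero _
      rw [hg, map_one, mul_one, inv_one, mul_one]
      exact one_mem _
    simpa using this 1 h1
  induction hx using Subgroup.closure_induction_left with
  | one => intro y hy; simpa using hy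
  | mul_left a ha b _ ih =>
    intro y hy
    rw [← mul_assoc]
    refine ih _ ?_
    rcases ha with ⟨q, rfl⟩ | rfl
    · exact F.U_mul_P hy q
    · exact F.U_mul_u hy
  | inv_mul_cancel a ha b _ ih =>
    intro y hy
    rw [← mul_assoc]
    refine ih _ ?_
    rcases ha with ⟨q, rfl⟩ | rfl
    · rw [← map_inv]; exact F.U_mul_P hy q⁻¹
    · rw [u_inv, ← mul_assoc, el_eq_toTh [5, 1] rfl]
      exact F.U_mul_P (F.U_mul_u hy) _

include F in
theorem finite : Finite G := by
  classical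
  have hfinR : Finite ThP.toTh.range := Finite.of_surjective _ ThP.toTh.rangeRestrict_surjective
  refine Finite.of_surjective
    (fun x : Fin F.C.nodes.length × ThP.P × ThP.toTh.range => (x.2.2 : G) * (F.g (F.nd x.1) * ThP.toTh x.2.1))
    fun z => ?_
  obtain ⟨i, hi, p, h⟩ := F.U_top z
  exact ⟨(⟨i, hi⟩, p, ⟨_, h⟩), inv_mul_cancel_right z _⟩

end Cert

end Cfsg.Agent.Lib.ThDce
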