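import Cfsg.Agent.Lib.ThDce.Prim
import Cfsg.Agent.Lib.CosetEnum.Index

/-!
Exactness: the generators permute the points, and the points correspond to the cosets of the image of `P`.
The orders of the node stabilisers are counted along one flag each.
-/

set_option autoImplicit false

namespace Cfsg.Agent.Lib.ThDce

open Cfsg.Agent.Lib.CosetEnum Cfsg.Agent.Lib.ExactCover

/-- Each flag is listed at both its ends, and the nodes are distinct. -/
noncomputable def flagsBack (C : Model) : Bool :=
  (allBelow C.flags.length fun f =>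
    ((C.vtx (C.flag f).vl).flags.any fun x => Nat.beq x f) &&
      (C.vtx (C.flag f).vn).flags.any fun x => Nat.beq x f) &&
  allBelow C.nodes.length fun i => allBelow C.nodes.length fun j =>
    Nat.beq i j || !Nat.beq (C.nodes.getD i 0) (C.nodes.getD j 0)

namespace Cert

variable (F : Cert) (h : F.SepData) (hb : flagsBack F.C = true)
include hb

theorem flag_listed {f : ℕ} (hf : f < F.C.flags.length) :
    f ∈ (F.C.vtx (F.C.flag f).vl).flags ∧ f ∈ (F.C.vtx (F.nd (F.C.flag f).pos)).flags := by
  have hb' := hb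
  simp only [flagsBack, Bool.and_eq_true] at hb'
  have := allBelow_iff.1 hb'.1 f hf
  simp only [Bool.and_eq_true, List.any_eq_true, Nat.beq_eq] at this
  obtain ⟨⟨y, hy, rfl⟩, ⟨z, hz, hze⟩⟩ := this
  exact ⟨hy, by rw [(F.flag_facts hf).nd]; exact hze ▸ hz⟩

theorem pos_unique {a b : ℕ} (ha : a < F.C.nodes.length) (hb' : b < F.C.nodes.length)
    (hab : F.nd a = F.nd b) : (⟨a, ha⟩ : Fin F.C.nodes.length) = ⟨b, hb'⟩ := by
  have h1 := hb
  simp only [flagsBack, Bool.and_eq_true] at h1
  have := allBelow_iff.1 (allBelow_iff.1 h1.2 a ha) b hb'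
  simp only [Bool.or_eq_true, Nat.beq_eq, Bool.not_eq_true', ← Bool.not_eq_true] at this
  exact Fin.ext (this.resolve_right fun hn => hn hab)

theorem uMap_uMap (x : F.XPt) : F.uMap h (F.uMap h x) = F.right (ThP.val [0, 4]) x := by
  obtain ⟨i, p, rfl⟩ := F.pt_surjective x
  obtain ⟨σ, hσ, f, hf, k, hk, e⟩ := Side.cover (F.nodeOK i.1 i.2) (pSide_dec p)
  change p = σ * ThP.val (F.C.flag f).w * k at e
  obtain ⟨hlt, hvn⟩ := F.node_flag i.2 hf
  have hF := F.flag_facts hlt
  obtain ⟨τ, hτ, f', hf', k', hk', e', -⟩ := F.u_step hlt hk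
  obtain ⟨hlt', hvl'⟩ := F.line_flag hF.lt hF.line hf'
  have hF' := F.flag_facts hlt'
  have hdec : F.cS.Dec (el (F.C.flag f').x * ThP.toTh k') := by
    obtain ⟨l, hl, hl', rfl⟩ := exists_hWord hk'
    rw [← el_eq_toTh l (okH_okP hl), ← el_append]
    refine F.cDec ?_
    simp only [CTab.okC, List.all_append, Bool.and_eq_true]
    exact ⟨hF'.okx, hl'⟩
  have hdec2 : F.cS.Dec (el (F.C.flag f').x * ThP.toTh k' * el [14]) := F.u_step_dec hlt' hk'
  have hfb : f ∈ (F.C.vtx (F.C.flag f).vl).flags := (F.flag_listed hb hlt).1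
  have hac : ThP.val [0, 4] ∈ ThP.subC := okH_mem (by decide +kernel)
  have huu : el [14] * el [14] = ThP.toTh (ThP.val [0, 4]) := by
    have h2 : el [14, 14, 5, 1] = 1 := el_rel (by decide +kernel)
    rw [show ([14, 14, 5, 1] : List ℕ) = [14] ++ [14] ++ invWord [0, 4] from rfl, el_append,
      el_invWord, mul_inv_eq_one] at h2
    rw [← el_append]
    exact h2.trans (el_eq_toTh _ rfl)
  -- the first application
  have e1 : F.uMap h (F.pt i p) = F.pt ⟨_, hF'.pos⟩ (ThP.val (F.C.flag f').w * k') := by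
    rw [uMap_pt, e, mul_assoc, F.atU_stab h i.2 hσ, F.atU_flag i.2 hf hk, viaU, e', mul_assoc τ,
      F.fromLine_stab h hF.lt hF.line hτ hdec, F.fromLine_flag h hF.lt hF.line hf' hk', atNode,
      dif_pos hF'.pos]
  have e2 : F.atU (F.C.flag f').pos (ThP.val (F.C.flag f').w * k') = F.viaU f' k' :=
    F.atU_flag hF'.pos (F.flag_listed hb hlt').2 hk'
  rw [e1, uMap_pt, e2, viaU, hvl', ← F.fromLine_stab h hF.lt hF.line hτ hdec2]
  have e3 : τ * (el (F.C.flag f').x * ThP.toTh k' * el [14]) =
      el (F.C.flag f).x * ThP.toTh (k * ThP.val [0, 4]) := by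
    rw [map_mul, ← huu, ← mul_assoc, ← mul_assoc, ← e']
    simp only [mul_assoc]
  rw [e3, F.fromLine_flag h hF.lt hF.line hfb (mul_mem hk hac), atNode, dif_pos hF.pos, right_pt]
  have hpi : (⟨(F.C.flag f).pos, hF.pos⟩ : Fin F.C.nodes.length) = i :=
    F.pos_unique hb hF.pos i.2 (hF.nd.trans hvn)
  rw [F.pt_congr hpi, pt_eq_iff, e]
  have := inv_mem hσ
  convert this using 1
  group

theorem step_injective (g : ℕ) : Function.Injective (F.step h g) := by
  have hR : ∀ q : ThP.P, Function.Injective (F.right q) := by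
    intro q x y e
    have := congrArg (F.right q⁻¹) e
    rwa [right_right, right_right, mul_inv_cancel, right_one, right_one] at this
  have hU : Function.Injective (F.uMap h) := fun x y e => hR (ThP.val [0, 4]) (by
    rw [← F.uMap_uMap h hb, ← F.uMap_uMap h hb, e])
  intro x y e
  unfold step at e
  split at e
  · exact hR _ e
  · split at e
    · exact hU e
    · exact hU (hR _ e)

theorem actW_injective : ∀ W : List ℕ, Function.Injective (F.actW h W)
  | [] => fun _ _ e => e
  | g :: W => fun _ _ e => F.step_injective h hb g (actW_injective W (by simpa [actW] using e))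

end Cert

theorem exists_word (z : G) : ∃ W : List ℕ, (∀ g ∈ W, g < 16) ∧ el W = z := by
  have hz : z ∈ Subgroup.closure (Set.range ThP.toTh ∪ {el [14]}) := by rw [Cert.gens_top]; trivial
  induction hz using Subgroup.closure_induction with
  | mem x hx =>
    rcases hx with ⟨q, rfl⟩ | rfl
    · obtain ⟨l, hl, rfl⟩ := Cert.exists_pWord q
      exact ⟨l, fun g hg => lt_of_lt_of_le (okP_iff.1 hl g hg) (by norm_num), el_eq_toTh l hl⟩
    · exact ⟨[14], by decide, rfl⟩
  | one => exact ⟨[], by simp, el_nil⟩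
  | mul x y _ _ hx hy =>
    obtain ⟨u, hu, rfl⟩ := hx
    obtain ⟨v, hv, rfl⟩ := hy
    exact ⟨u ++ v, fun g hg => (List.mem_append.1 hg).elim (hu g) (hv g), el_append u v⟩
  | inv x _ hx =>
    obtain ⟨u, hu, rfl⟩ := hx
    refine ⟨invWord u, fun g hg => ?_, el_invWord u⟩
    obtain ⟨y, hy, rfl⟩ := List.mem_map.1 (List.mem_reverse.1 hg)
    have := hu y hy
    unfold ExactCover.flip
    split <;> omega

namespace Cert

variable (F : Cert) (h : F.SepData) (hb : flagsBack F.C = true) {D : PrimData} (hD : D.check F.C = true)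
include h hb hD

theorem toCoset_bijective : Function.Bijective F.toCoset := by
  refine ⟨?_, F.toCoset_surjective⟩
  have resp : ∀ g < 16, ∀ x y, F.toCoset x = F.toCoset y →
      F.toCoset (F.step h g x) = F.toCoset (F.step h g y) := fun g hg x y e => by
    rw [F.toCoset_step h hg, F.toCoset_step h hg, e]
  have fib : ∀ x, F.toCoset x = F.toCoset F.base → x = F.base := by
    intro x hx
    by_contra hne
    have hall := F.constant h hD F.toCoset resp hne hx
    apply h.hu
    obtain ⟨y, hy⟩ := F.toCoset_surjective (((el [14])⁻¹ : G) : G ⧸ ThP.toTh.range)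
    have := hall y
    rw [hy, toCoset_base, QuotientGroup.eq] at this
    simpa using this
  intro x y e
  obtain ⟨z, hz⟩ := QuotientGroup.mk_surjective (F.toCoset x)
  obtain ⟨W, hW, hWz⟩ := exists_word z
  have h1 : F.toCoset (F.actW h W x) = F.toCoset F.base := by
    rw [F.toCoset_actW h W x hW, hWz, ← hz, MulAction.Quotient.smul_coe, toCoset_base, smul_eq_mul,
      inv_mul_cancel]
  have h2 : F.toCoset (F.actW h W y) = F.toCoset F.base := by
    rw [F.toCoset_actW h W y hW, ← e, ← F.toCoset_actW h W x hW, h1]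
  exact F.actW_injective h hb W ((fib _ h1).trans (fib _ h2).symm)

theorem index_range : ThP.toTh.range.index = Nat.card F.XPt :=
  (Nat.card_eq_of_bijective _ (F.toCoset_bijective h hb hD)).symm

end Cert

end Cfsg.Agent.Lib.ThDce
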