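import Mathlib

/-! Words packed into numbers: base 16 digits behind a leading 1. -/

set_option autoImplicit false

namespace Cfsg.Agent.Lib.ThDce

/-- The digits of a packed word, put before `acc`. -/
def unpGo : ℕ → ℕ → List ℕ → List ℕ
  | 0, _, acc => acc
  | fuel + 1, n, acc => bif Nat.ble n 1 then acc else unpGo fuel (n / 16) (n % 16 :: acc)

/-- A packed word. -/
def wd (n : ℕ) : List ℕ := unpGo 256 n []

/-- A packed product of generators and inverses: digit `2 j + 1` stands for the inverse of generator `j`. -/
def wg (n : ℕ) : List (ℕ × Bool) := (wd n).map fun g => (g / 2, Nat.beq (g % 2) 1)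

end Cfsg.Agent.Lib.ThDce
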