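import Cfsg.Agent.Lib.ThDce.Action

/-!
Primitivity: walks of the base point to every node and climbs between the nodes show that a map of the points
respected by all generators is constant as soon as it sends another point where the base point goes.
-/

set_option autoImplicit false

namespace Cfsg.Agent.Lib.ThDce

open Cfsg.Agent.Lib.CosetEnum Cfsg.Agent.Lib.ExactCover

/-- The data of one application of `u`. -/
structure UStep where
  sN : List (ℕ × Bool)
  f : ℕ
  k : List ℕ
  sL : List (ℕ × Bool)
  f' : ℕ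
  k' : List ℕ

/-- The walk of a node element under one application of `u`. -/
noncomputable def evalU (C : Model) (i : ℕ) (wd : List ℕ) (s : UStep) : Option (ℕ × List ℕ) :=
  let v := C.nodes.getD i 0
  let r := C.flag s.f
  let r' := C.flag s.f'
  bif (C.vtx v).flags.any (fun x => Nat.beq x s.f) && (C.vtx r.vl).flags.any (fun x => Nat.beq x s.f') &&
      okH s.k && CTab.okC s.k && okH s.k' &&
      pEq wd (genW (C.vtx v).gens s.sN ++ r.w ++ s.k) &&
      cEq C.D.T (r.x ++ s.k ++ [14]) (genW (C.vtx r.vl).gens s.sL ++ r'.x ++ s.k') then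
    some (r'.pos, r'.w ++ s.k')
  else none

/-- The walk of a node element along a word. -/
noncomputable def evalW (C : Model) : List ℕ → List UStep → ℕ → List ℕ → Option (ℕ × List ℕ)
  | [], _, i, wd => some (i, wd)
  | g :: W, ts, i, wd =>
    bif Nat.blt g 14 then evalW C W ts i (wd ++ [g])
    else
      match ts with
      | [] => none
      | s :: ts' =>
        match evalU C i wd s with
        | none => none
        | some q => evalW C W ts' q.1 (bif Nat.beq g 14 then q.2 else q.2 ++ [5, 1])

/-- The data of primitivity: for each node a word and the walk from the base to it, and the climbs. -/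
structure PrimData where
  R : List (List ℕ)
  reach : List (List UStep × List (ℕ × Bool))
  first : List UStep
  one : ℕ
  climb : List (ℕ × List ℕ × List UStep × ℕ)

/-- The climbs reach the first node from every node. -/
noncomputable def climbsOK (C : Model) (D : PrimData) : List (ℕ × List ℕ × List UStep × ℕ) → List ℕ → Bool
  | [], known => (List.range (C.nodes.length - 1)).all fun i => known.any fun x => Nat.beq x (i + 1)
  | c :: cs, known =>
    Nat.blt c.1 C.nodes.length && okP c.2.1 && known.any (fun x => Nat.beq x c.2.2.2) &&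
    (match evalW C (D.R.getD c.1 []) c.2.2.1 c.1 c.2.1 with
      | none => false
      | some q => Nat.beq q.1 c.2.2.2) &&
    climbsOK C D cs (c.1 :: known)

/-- All checks. -/
noncomputable def PrimData.check (C : Model) (D : PrimData) : Bool :=
  decide ((C.vtx (C.nodes.getD 0 0)).gens = [[0], [2], [4], [6], [8], [10], [12]]) &&
  ((List.range C.nodes.length).all fun i =>
    (D.R.getD i []).all (fun g => Nat.blt g 16) &&
    match evalW C (D.R.getD i []) (D.reach.getD i ([], [])).1 0 [] with
    | none => false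
    | some q => Nat.beq q.1 i &&
        pEq q.2 (genW (C.vtx (C.nodes.getD i 0)).gens (D.reach.getD i ([], [])).2)) &&
  (match evalW C [14] D.first 0 [] with
    | none => false
    | some q => Nat.beq q.1 D.one) &&
  climbsOK C D D.climb [D.one]

theorem evalW_cons (C : Model) (g : ℕ) (W : List ℕ) (ts : List UStep) (i : ℕ) (wd : List ℕ) :
    evalW C (g :: W) ts i wd =
      bif Nat.blt g 14 then evalW C W ts i (wd ++ [g])
      else
        match ts with
        | [] => none
        | s :: ts' =>
          match evalU C i wd s with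
          | none => none
          | some q => evalW C W ts' q.1 (bif Nat.beq g 14 then q.2 else q.2 ++ [5, 1]) := by
  cases ts <;> rfl

namespace Cert

variable (F : Cert) (h : F.SepData)

theorem right_right (p q : ThP.P) (x : F.XPt) : F.right q (F.right p x) = F.right (p * q) x := by
  obtain ⟨i, r, rfl⟩ := F.pt_surjective x
  rw [right_pt, right_pt, right_pt, mul_assoc]

theorem right_one (x : F.XPt) : F.right 1 x = x := by
  obtain ⟨i, r, rfl⟩ := F.pt_surjective x
  rw [right_pt, mul_one]

theorem actW_P : ∀ (l : List ℕ), okP l = true → ∀ x : F.XPt, F.actW h l x = F.right (ThP.val l) x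
  | [], _, x => by rw [actW, val_nil, right_one]
  | g :: l, hl, x => by
    simp only [okP, List.all_cons, Bool.and_eq_true, Nat.blt_eq] at hl
    rw [actW, actW_P l hl.2, step, if_pos hl.1, right_right, ← val_append, List.singleton_append]

theorem evalU_sound {i : ℕ} (hi : i < F.C.nodes.length) {wd : List ℕ} {s : UStep} {q : ℕ × List ℕ}
    (he : evalU F.C i wd s = some q) :
    ∃ hq : q.1 < F.C.nodes.length, F.uMap h (F.pt ⟨i, hi⟩ (ThP.val wd)) = F.pt ⟨q.1, hq⟩ (ThP.val q.2) := by
  simp only [evalU] at he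
  cases hc : ((F.C.vtx (F.C.nodes.getD i 0)).flags.any (fun x => Nat.beq x s.f) &&
      (F.C.vtx (F.C.flag s.f).vl).flags.any (fun x => Nat.beq x s.f') && okH s.k && CTab.okC s.k &&
      okH s.k' && pEq wd (genW (F.C.vtx (F.C.nodes.getD i 0)).gens s.sN ++ (F.C.flag s.f).w ++ s.k) &&
      cEq F.C.D.T ((F.C.flag s.f).x ++ s.k ++ [14])
        (genW (F.C.vtx (F.C.flag s.f).vl).gens s.sL ++ (F.C.flag s.f').x ++ s.k')) with
  | false => rw [hc, cond_false] at he; simp at he
  | true =>
    simp only [hc, cond_true, Option.some.injEq] at he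
    subst he
    simp only [Bool.and_eq_true, List.any_eq_true, Nat.beq_eq] at hc
    obtain ⟨⟨⟨⟨⟨⟨⟨y, hy, rfl⟩, ⟨y', hy', rfl⟩⟩, hk⟩, hkC⟩, hk'⟩, hp⟩, hl⟩ := hc
    obtain ⟨hlt, -⟩ := F.node_flag hi hy
    have hF := F.flag_facts hlt
    obtain ⟨hlt', -⟩ := F.line_flag hF.lt hF.line hy'
    have hF' := F.flag_facts hlt'
    refine ⟨hF'.pos, ?_⟩
    have hσ : ThP.val (genW (F.C.vtx (F.nd i)).gens s.sN) ∈ pSide.stab (F.C.vtx (F.nd i)) :=
      Side.genW_spec (Side.gens_ok (F.nodeOK i hi)) s.sN
    have hτ : el (genW (F.C.vtx (F.C.flag s.f).vl).gens s.sL) ∈ F.cS.stab (F.C.vtx (F.C.flag s.f).vl) :=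
      Side.genW_spec (Side.gens_ok (F.lineOK _ hF.lt hF.line)) s.sL
    have hk'' := okH_mem hk'
    rw [uMap_pt, pEq_val hp, val_append, val_append, mul_assoc, F.atU_stab h hi hσ,
      F.atU_flag hi hy (okH_mem hk), viaU, ← el_eq_toTh _ (okH_okP hk), ← el_append, ← el_append,
      cEq_el F.tab hl, el_append, el_append, el_eq_toTh _ (okH_okP hk'), mul_assoc]
    have hdec : F.cS.Dec (el (F.C.flag s.f').x * ThP.toTh (ThP.val s.k')) := by
      obtain ⟨l, hl1, hl2, hle⟩ := exists_hWord hk''
      rw [← hle, ← el_eq_toTh l (okH_okP hl1), ← el_append]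
      refine F.cDec ?_
      simp only [CTab.okC, List.all_append, Bool.and_eq_true]
      exact ⟨hF'.okx, hl2⟩
    rw [F.fromLine_stab h hF.lt hF.line hτ hdec, F.fromLine_flag h hF.lt hF.line hy' hk'', atNode,
      dif_pos hF'.pos, val_append]

theorem evalW_sound : ∀ (W : List ℕ) (ts : List UStep) (i : ℕ) (hi : i < F.C.nodes.length) (wd : List ℕ)
    (q : ℕ × List ℕ), (∀ g ∈ W, g < 16) → evalW F.C W ts i wd = some q →
    ∃ hq : q.1 < F.C.nodes.length,
      F.actW h W (F.pt ⟨i, hi⟩ (ThP.val wd)) = F.pt ⟨q.1, hq⟩ (ThP.val q.2) := by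
  intro W
  induction W with
  | nil =>
    intro ts i hi wd q _ he
    simp only [evalW, Option.some.injEq] at he
    subst he
    exact ⟨hi, rfl⟩
  | cons g W ih =>
    intro ts i hi wd q hW he
    have hW' : ∀ y ∈ W, y < 16 := fun y hy => hW y (List.mem_cons_of_mem _ hy)
    have hg := hW g List.mem_cons_self
    rw [evalW_cons] at he
    cases h14 : Nat.blt g 14 with
    | true =>
      rw [h14, cond_true] at he
      rw [Nat.blt_eq] at h14
      obtain ⟨hq, e⟩ := ih ts i hi _ q hW' he
      refine ⟨hq, ?_⟩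
      rw [actW, step, if_pos h14, right_pt, ← val_append]
      exact e
    | false =>
      rw [h14, cond_false] at he
      have hge : ¬ g < 14 := by rw [← Nat.blt_eq, h14]; simp
      cases ts with
      | nil => simp at he
      | cons s ts' =>
        simp only at he
        cases hu : evalU F.C i wd s with
        | none => simp [hu] at he
        | some r =>
          simp only [hu] at he
          obtain ⟨hr, e1⟩ := F.evalU_sound h hi hu
          obtain ⟨hq, e⟩ := ih ts' r.1 hr _ q hW' he
          refine ⟨hq, ?_⟩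
          rw [actW, step, if_neg hge]
          by_cases hg14 : g = 14
          · subst hg14
            rw [if_pos rfl, e1]
            simpa using e
          · rw [if_neg hg14, e1, right_pt, ← val_append]
            have hb : Nat.beq g 14 = false := by
              rw [← Bool.not_eq_true, Nat.beq_eq]; exact hg14
            rw [hb, cond_false] at e
            exact e

theorem exists_pWord (p : ThP.P) : ∃ l : List ℕ, okP l = true ∧ ThP.val l = p := by
  obtain ⟨b, hb, k, hk, e⟩ := pSide_dec p
  obtain ⟨l, hl, -, rfl⟩ := exists_hWord hk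
  refine ⟨invWord (ThP.transWord b) ++ l,
    okP_append (okP_invWord (okP_transWord hb)) (okH_okP hl), ?_⟩
  rw [val_append]
  exact e.symm

variable {D : PrimData} (hD : D.check F.C = true)
include hD

theorem base_stab : pSide.stab (F.C.vtx (F.nd 0)) = ⊤ := by
  simp only [PrimData.check, Bool.and_eq_true, decide_eq_true_eq] at hD
  rw [eq_top_iff, ← ThP.DSimple.gens_top, Subgroup.closure_le]
  intro x hx
  simp only [Set.mem_insert_iff, Set.mem_singleton_iff] at hx
  apply Subgroup.subset_closure
  rw [Set.mem_ofPred_eq]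
  simp only [nd] at hD ⊢
  rw [hD.1.1.1]
  rcases hx with rfl | rfl | rfl | rfl | rfl | rfl | rfl
  · exact ⟨[0], by simp, ThP.DSimple.val_singleton 0⟩
  · exact ⟨[2], by simp, ThP.DSimple.val_singleton 2⟩
  · exact ⟨[4], by simp, ThP.DSimple.val_singleton 4⟩
  · exact ⟨[6], by simp, ThP.DSimple.val_singleton 6⟩
  · exact ⟨[8], by simp, ThP.DSimple.val_singleton 8⟩
  · exact ⟨[10], by simp, ThP.DSimple.val_singleton 10⟩
  · exact ⟨[12], by simp, ThP.DSimple.val_singleton 12⟩

theorem pt_zero (p : ThP.P) : F.pt ⟨0, F.node0.1⟩ p = F.base := by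
  rw [base, pt_eq_iff, F.base_stab hD]
  trivial

include h

theorem reach (i : Fin F.C.nodes.length) :
    (∀ g ∈ D.R.getD i.1 [], g < 16) ∧ F.actW h (D.R.getD i.1 []) F.base = F.pt i 1 := by
  have hD' := hD
  simp only [PrimData.check, Bool.and_eq_true, List.all_eq_true, List.mem_range, Nat.blt_eq] at hD'
  obtain ⟨hR, he⟩ := hD'.1.1.2 i.1 i.2
  refine ⟨hR, ?_⟩
  cases hq : evalW F.C (D.R.getD i.1 []) (D.reach.getD i.1 ([], [])).1 0 [] with
  | none => rw [hq] at he; simp at he
  | some q =>
    rw [hq] at he; simp only [Bool.and_eq_true, Nat.beq_eq] at he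
    obtain ⟨hq', e⟩ := F.evalW_sound h _ _ 0 F.node0.1 [] q hR hq
    rw [val_nil] at e
    rw [base, e]
    obtain ⟨q1, q2⟩ := q
    obtain ⟨rfl, he2⟩ := he
    rw [pt_eq_iff, inv_one, mul_one, pEq_val he2]
    exact Side.genW_spec (Side.gens_ok (F.nodeOK i.1 i.2)) _

/-- A map respected by the generators which does not separate the base point is constant. -/
theorem constant {Z : Type*} (Ψ : F.XPt → Z)
    (hΨ : ∀ g < 16, ∀ x y, Ψ x = Ψ y → Ψ (F.step h g x) = Ψ (F.step h g y))
    {x : F.XPt} (hx : x ≠ F.base) (hxB : Ψ x = Ψ F.base) : ∀ y, Ψ y = Ψ F.base := by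
  set B := Ψ F.base with hB
  have resp : ∀ (W : List ℕ), (∀ g ∈ W, g < 16) → ∀ a b, Ψ a = Ψ b → Ψ (F.actW h W a) = Ψ (F.actW h W b) := by
    intro W
    induction W with
    | nil => intro _ a b e; exact e
    | cons g W ih =>
      intro hW a b e
      exact ih (fun y hy => hW y (List.mem_cons_of_mem _ hy)) _ _ (hΨ g (hW g List.mem_cons_self) a b e)
  have p16 : ∀ l : List ℕ, okP l = true → ∀ g ∈ l, g < 16 := fun l hl g hg =>
    lt_of_lt_of_le (okP_iff.1 hl g hg) (by norm_num)
  have fixP : ∀ l : List ℕ, okP l = true → F.actW h l F.base = F.base := fun l hl => by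
    rw [F.actW_P h l hl]
    conv_lhs => rw [base, right_pt]
    exact F.pt_zero hD _
  have moveP : ∀ z, Ψ z = B → ∀ l : List ℕ, okP l = true → Ψ (F.actW h l z) = B := fun z hz l hl => by
    rw [resp l (p16 l hl) z F.base hz, fixP l hl]
  let Q : ℕ → Prop := fun i => ∀ hi : i < F.C.nodes.length, ∀ p, Ψ (F.pt ⟨i, hi⟩ p) = B
  have nodeAll : ∀ (i : Fin F.C.nodes.length) (p : ThP.P), Ψ (F.pt i p) = B → Q i.1 := by
    intro i p hp hi p'
    obtain ⟨l, hl, hle⟩ := exists_pWord (p⁻¹ * p')
    have := moveP _ hp l hl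
    rwa [F.actW_P h l hl, right_pt, hle, mul_inv_cancel_left] at this
  have hD' := hD
  simp only [PrimData.check, Bool.and_eq_true] at hD'
  obtain ⟨⟨-, hfirst⟩, hcl⟩ := hD'
  have climbs : ∀ (cs : List (ℕ × List ℕ × List UStep × ℕ)) (known : List ℕ),
      climbsOK F.C D cs known = true → (∀ k ∈ known, Q k → Q D.one) →
      ∀ k, k + 1 < F.C.nodes.length → Q (k + 1) → Q D.one := by
    intro cs
    induction cs with
    | nil =>
      intro known hk hkn k hk1 hQ
      simp only [climbsOK, List.all_eq_true, List.mem_range, List.any_eq_true, Nat.beq_eq] at hk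
      obtain ⟨y, hy, rfl⟩ := hk k (by omega)
      exact hkn _ hy hQ
    | cons c cs ih =>
      intro known hk hkn
      simp only [climbsOK, Bool.and_eq_true, Nat.blt_eq, List.any_eq_true, Nat.beq_eq] at hk
      obtain ⟨⟨⟨⟨hc, hp⟩, y, hy, hye⟩, hw⟩, hrest⟩ := hk
      refine ih _ hrest fun k hk' hQ => ?_
      rcases List.mem_cons.1 hk' with rfl | hk'
      swap
      · exact hkn k hk' hQ
      cases hq : evalW F.C (D.R.getD c.1 []) c.2.2.1 c.1 c.2.1 with
      | none => rw [hq] at hw; simp at hw
      | some q =>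
        rw [hq] at hw; simp only [Nat.beq_eq] at hw
        obtain ⟨hR, hreach⟩ := F.reach h hD ⟨c.1, hc⟩
        obtain ⟨hq', e⟩ := F.evalW_sound h _ _ c.1 hc c.2.1 q hR hq
        have := resp _ hR _ _ (hQ hc (ThP.val c.2.1))
        rw [e, hreach, hQ hc 1] at this
        exact hkn _ (hye ▸ hy) (hw ▸ nodeAll ⟨q.1, hq'⟩ _ this)
  obtain ⟨i, p, rfl⟩ := F.pt_surjective x
  have hi0 : i.1 ≠ 0 := fun h0 => hx (by
    rw [F.pt_congr (show i = ⟨0, F.node0.1⟩ from Fin.ext h0)]; exact F.pt_zero hD p)
  have hone : Q D.one :=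
    climbs D.climb [D.one] hcl (fun k hk hQ => by rwa [List.mem_singleton.1 hk] at hQ) (i.1 - 1)
      (by have := i.2; omega) (by rw [Nat.sub_add_cancel (Nat.pos_of_ne_zero hi0)]; exact nodeAll i p hxB)
  have hu : Ψ (F.actW h [14] F.base) = B := by
    cases hq : evalW F.C [14] D.first 0 [] with
    | none => rw [hq] at hfirst; simp at hfirst
    | some q =>
      rw [hq] at hfirst; simp only [Nat.beq_eq] at hfirst
      obtain ⟨hq', e⟩ := F.evalW_sound h [14] _ 0 F.node0.1 [] q (by decide) hq
      rw [val_nil] at e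
      rw [base, e]
      obtain ⟨q1, q2⟩ := q
      subst hfirst
      exact hone hq' _
  have hstep : ∀ g < 16, Ψ (F.step h g F.base) = B := by
    intro g hg
    by_cases h14 : g < 14
    · exact congrArg Ψ (show F.step h g F.base = F.base from fixP [g] (okP_iff.2 (by simpa using h14)))
    · by_cases hg14 : g = 14
      · subst hg14; exact hu
      · have hu' : Ψ (F.uMap h F.base) = B := hu
        rw [step, if_neg h14, if_neg hg14, ← F.actW_P h [5, 1] rfl]
        exact moveP _ hu' [5, 1] rfl
  have hall : ∀ (W : List ℕ), (∀ g ∈ W, g < 16) → Ψ (F.actW h W F.base) = B := by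
    intro W
    induction W with
    | nil => intro _; rfl
    | cons g W ih =>
      intro hW
      have hW' : ∀ y ∈ W, y < 16 := fun y hy => hW y (List.mem_cons_of_mem _ hy)
      rw [actW, resp W hW' _ F.base (hstep g (hW g List.mem_cons_self))]
      exact ih hW'
  intro y
  obtain ⟨j, q, rfl⟩ := F.pt_surjective y
  obtain ⟨hR, hreach⟩ := F.reach h hD j
  obtain ⟨l, hl, rfl⟩ := exists_pWord q
  have := hall (D.R.getD j.1 [] ++ l) (fun g hg => (List.mem_append.1 hg).elim (hR g) (p16 l hl g))
  rwa [actW_append, hreach, F.actW_P h l hl, right_pt, one_mul] at this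

end Cert

end Cfsg.Agent.Lib.ThDce
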