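import Cfsg.Agent.Lib.ThDce.Walk

/-!
Cosets of a subgroup `D` in a group `A` sorted by their orbits on the blocks `A / H₀`: functions given on
orbit representatives and invariant under their stabilisers extend to functions invariant under `D`.
-/

set_option autoImplicit false

namespace Cfsg.Agent.Lib.ThDce

open Cfsg.Agent.Lib.CosetEnum Cfsg.Agent.Lib.ExactCover

/-- A word of `H₀`. -/
noncomputable def okH (k : List ℕ) : Bool := okP k && Nat.beq (scan 14 ThP.table k 0) 0

theorem okH_okP {k : List ℕ} (h : okH k = true) : okP k = true := by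
  simp only [okH, Bool.and_eq_true] at h; exact h.1

theorem okH_mem {k : List ℕ} (h : okH k = true) : ThP.val k ∈ ThP.subC := by
  simp only [okH, Bool.and_eq_true, Nat.beq_eq] at h
  exact ThP.val_mem_subC k (okP_iff.1 h.1) h.2

/-- A group with words, blocks (cosets of the image of `H₀`) and an equality test. -/
structure Side (A : Type*) [Group A] where
  ev : List ℕ → A
  ok : List ℕ → Bool
  eqW : List ℕ → List ℕ → Bool
  rep : ℕ → List ℕ
  n : ℕ
  κ : ThP.P →* A
  ev_append : ∀ u v, ev (u ++ v) = ev u * ev v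
  ev_nil : ev [] = 1
  ev_inv : ∀ u, ok u = true → ev (invWord u) = (ev u)⁻¹
  eqW_sound : ∀ u v, eqW u v = true → ev u = ev v
  κ_val : ∀ k, okH k = true → κ (ThP.val k) = ev k

/-- The image of `H₀` is faithful and the blocks are distinct. -/
structure Side.Sep {A : Type*} [Group A] (S : Side A) : Prop where
  κ_inj : Function.Injective S.κ
  uniq : ∀ b < S.n, ∀ b' < S.n, ∀ k ∈ ThP.subC, ∀ k' ∈ ThP.subC,
    S.ev (S.rep b) * S.κ k = S.ev (S.rep b') * S.κ k' → b = b'

/-- A product of listed generators and their inverses. -/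
def genW (gens : List (List ℕ)) (l : List (ℕ × Bool)) : List ℕ :=
  (l.map fun p => bif p.2 then invWord (gens.getD p.1 []) else gens.getD p.1 []).flatten

/-- The data of one block at a vertex: its flag and correcting word, its depth, the block it comes from,
and the images under the generators. -/
structure BData where
  f : ℕ
  K : List ℕ
  depth : ℕ
  link : Option (ℕ × ℕ × Bool × List ℕ)
  schr : List (ℕ × List ℕ × List (ℕ × Bool))

/-- The data of the flags: representatives at the vertex and generators of the stabilisers. -/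
structure FlagData where
  w : ℕ → List ℕ
  cg : ℕ → List (List ℕ)

/-- The data of a vertex. -/
structure VData where
  gens : List (List ℕ)
  flags : List ℕ
  roots : List ℕ
  blocks : List (List BData)

namespace VData

variable (V : VData)

/-- The data of a block. -/
def blk (b : ℕ) : BData := (V.blocks.getD (b / 32) []).getD (b % 32) ⟨0, [], 0, none, []⟩

end VData

namespace Side

variable {A : Type*} [Group A] (S : Side A) (Φ : FlagData) (V : VData)

/-- Check one block. -/
noncomputable def checkBlk (b : ℕ) : Bool :=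
  let d := V.blk b
  V.flags.any (fun f => Nat.beq f d.f) && okH d.K &&
  (match d.link with
    | none => S.eqW (S.rep b) (Φ.w d.f ++ d.K)
    | some q => Nat.blt q.1 S.n && Nat.blt (V.blk q.1).depth d.depth && Nat.beq (V.blk q.1).f d.f &&
        okH q.2.2.2 && S.eqW (S.rep b) (genW V.gens [(q.2.1, q.2.2.1)] ++ S.rep q.1 ++ q.2.2.2) &&
        pEq d.K ((V.blk q.1).K ++ q.2.2.2)) &&
  ((List.range V.gens.length).all fun j =>
    let s := d.schr.getD j (0, [], [])
    Nat.blt s.1 S.n && okH s.2.1 && Nat.beq (V.blk s.1).f d.f &&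
      S.eqW (V.gens.getD j [] ++ S.rep b) (S.rep s.1 ++ s.2.1) &&
      pEq ((V.blk s.1).K ++ s.2.1) (genW (Φ.cg d.f) s.2.2 ++ d.K))

/-- Check the flags of the vertex. -/
noncomputable def checkFlags : Bool :=
  V.gens.all S.ok &&
  (List.range V.flags.length).all fun i =>
    let f := V.flags.getD i 0
    let b := V.roots.getD i 0
    Nat.blt b S.n && Nat.beq (V.blk b).f f && S.ok (Φ.w f) && (Φ.cg f).all okH &&
      S.eqW (S.rep b) (Φ.w f ++ (V.blk b).K)

/-- All checks of a vertex. -/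
structure VOK : Prop where
  flags : S.checkFlags Φ V = true
  blk : ∀ b < S.n, S.checkBlk Φ V b = true

/-- The subgroup of the vertex. -/
def stab : Subgroup A := Subgroup.closure {x | ∃ g ∈ V.gens, S.ev g = x}

/-- An element splitting along the blocks. -/
def Dec (a : A) : Prop := ∃ b < S.n, ∃ k ∈ ThP.subC, a = S.ev (S.rep b) * S.κ k

/-- The stabiliser of a flag in `H₀`. -/
def fstab (f : ℕ) : Subgroup ThP.P := Subgroup.closure {x | ∃ c ∈ Φ.cg f, ThP.val c = x}

variable {S Φ V}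

theorem genW_spec {gens : List (List ℕ)} (hg : ∀ g ∈ gens, S.ok g = true) :
    ∀ l : List (ℕ × Bool), S.ev (genW gens l) ∈ Subgroup.closure {x | ∃ g ∈ gens, S.ev g = x} := by
  intro l
  induction l with
  | nil => simp [genW, S.ev_nil]
  | cons p l ih =>
    have e : genW gens (p :: l) =
        (bif p.2 then invWord (gens.getD p.1 []) else gens.getD p.1 []) ++ genW gens l := by
      simp [genW]
    rw [e, S.ev_append]
    refine Subgroup.mul_mem _ ?_ ih
    rcases lt_or_ge p.1 gens.length with h | h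
    · rw [List.getD_eq_getElem _ _ h]
      have hm : S.ev gens[p.1] ∈ Subgroup.closure {x | ∃ g ∈ gens, S.ev g = x} :=
        Subgroup.subset_closure ⟨_, List.getElem_mem h, rfl⟩
      cases p.2
      · exact hm
      · exact (S.ev_inv _ (hg _ (List.getElem_mem h))).symm ▸ Subgroup.inv_mem _ hm
    · rw [List.getD_eq_default _ _ h]
      cases p.2 <;> simp [invWord, S.ev_nil]

theorem genW_mem_fstab {f : ℕ} (hc : ∀ c ∈ Φ.cg f, okH c = true) :
    ∀ l : List (ℕ × Bool), ThP.val (genW (Φ.cg f) l) ∈ fstab Φ f ∧ okP (genW (Φ.cg f) l) = true := by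
  intro l
  induction l with
  | nil => exact ⟨by simp [genW, val_nil], rfl⟩
  | cons p l ih =>
    have e : genW (Φ.cg f) (p :: l) =
        (bif p.2 then invWord ((Φ.cg f).getD p.1 []) else (Φ.cg f).getD p.1 []) ++ genW (Φ.cg f) l := by
      simp [genW]
    rw [e]
    rcases lt_or_ge p.1 (Φ.cg f).length with h | h
    · rw [List.getD_eq_getElem _ _ h]
      have ho := okH_okP (hc _ (List.getElem_mem h))
      have hm : ThP.val (Φ.cg f)[p.1] ∈ fstab Φ f := Subgroup.subset_closure ⟨_, List.getElem_mem h, rfl⟩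
      cases p.2
      · exact ⟨by rw [val_append]; exact Subgroup.mul_mem _ hm ih.1, okP_append ho ih.2⟩
      · refine ⟨?_, okP_append (okP_invWord ho) ih.2⟩
        rw [val_append]
        refine Subgroup.mul_mem _ ?_ ih.1
        simp only [cond_true]
        rw [val_invWord _ ho]
        exact Subgroup.inv_mem _ hm
    · rw [List.getD_eq_default _ _ h]
      cases p.2 <;> simpa [invWord] using ih

variable (hV : S.VOK Φ V)
include hV

theorem gens_ok : ∀ g ∈ V.gens, S.ok g = true := by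
  have := hV.flags
  simp only [checkFlags, Bool.and_eq_true, List.all_eq_true] at this
  exact this.1

theorem flag_root {f : ℕ} (hf : f ∈ V.flags) :
    ∃ b < S.n, (V.blk b).f = f ∧ S.ok (Φ.w f) = true ∧ (∀ c ∈ Φ.cg f, okH c = true) ∧
      S.ev (S.rep b) = S.ev (Φ.w f ++ (V.blk b).K) := by
  obtain ⟨i, hi, rfl⟩ := List.mem_iff_getElem.1 hf
  have := hV.flags
  simp only [checkFlags, Bool.and_eq_true, List.all_eq_true, List.mem_range] at this
  obtain ⟨⟨⟨⟨h1, h2⟩, h3⟩, h4⟩, h5⟩ := this.2 i hi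
  rw [List.getD_eq_getElem _ _ hi] at h2 h3 h4 h5
  simp only [Nat.blt_eq, Nat.beq_eq] at h1 h2
  exact ⟨_, h1, h2, h3, h4, S.eqW_sound _ _ h5⟩

theorem blk_facts {b : ℕ} (hb : b < S.n) :
    (V.blk b).f ∈ V.flags ∧ okH (V.blk b).K = true := by
  have := hV.blk b hb
  simp only [checkBlk, Bool.and_eq_true, List.any_eq_true, Nat.beq_eq] at this
  obtain ⟨x, hx, hxe⟩ := this.1.1.1
  exact ⟨hxe ▸ hx, this.1.1.2⟩

theorem schreier {g : List ℕ} (hg : g ∈ V.gens) {b : ℕ} (hb : b < S.n) :
    ∃ q < S.n, ∃ k ∈ ThP.subC, S.ev g * S.ev (S.rep b) = S.ev (S.rep q) * S.κ k ∧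
      (V.blk q).f = (V.blk b).f ∧
      ThP.val (V.blk q).K * k * (ThP.val (V.blk b).K)⁻¹ ∈ fstab Φ (V.blk b).f := by
  obtain ⟨j, hj, rfl⟩ := List.mem_iff_getElem.1 hg
  have := hV.blk b hb
  simp only [checkBlk, Bool.and_eq_true, List.all_eq_true, List.mem_range] at this
  obtain ⟨⟨⟨⟨h1, h2⟩, h3⟩, h4⟩, h5⟩ := this.2 j hj
  simp only [Nat.blt_eq, Nat.beq_eq] at h1 h3
  rw [List.getD_eq_getElem _ _ hj] at h4
  refine ⟨_, h1, _, okH_mem h2, ?_, h3, ?_⟩
  · rw [← S.ev_append, S.eqW_sound _ _ h4, S.ev_append, S.κ_val _ h2]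
  · obtain ⟨b0, hb0, hf, -, hc, -⟩ := flag_root hV (blk_facts hV hb).1
    have := pEq_val h5
    rw [val_append, val_append] at this
    rw [this, mul_inv_cancel_right]
    exact (genW_mem_fstab hc _).1

/-- Every element with a block splits as stabiliser, representative of a flag and element of `H₀`. -/
theorem cover {a : A} (ha : S.Dec a) :
    ∃ σ ∈ S.stab V, ∃ f ∈ V.flags, ∃ k ∈ ThP.subC, a = σ * S.ev (Φ.w f) * S.κ k := by
  suffices ∀ b < S.n, ∃ σ ∈ S.stab V,
      S.ev (S.rep b) = σ * S.ev (Φ.w (V.blk b).f) * S.κ (ThP.val (V.blk b).K) by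
    obtain ⟨b, hb, k, hk, rfl⟩ := ha
    obtain ⟨σ, hσ, h⟩ := this b hb
    refine ⟨σ, hσ, _, (blk_facts hV hb).1, ThP.val (V.blk b).K * k,
      ThP.subC.mul_mem (okH_mem (blk_facts hV hb).2) hk, ?_⟩
    rw [h, map_mul, ← mul_assoc]
  suffices ∀ d, ∀ b < S.n, (V.blk b).depth = d → ∃ σ ∈ S.stab V,
      S.ev (S.rep b) = σ * S.ev (Φ.w (V.blk b).f) * S.κ (ThP.val (V.blk b).K) from
    fun b hb => this _ b hb rfl
  intro d
  induction d using Nat.strong_induction_on with
  | _ d ih =>
    intro b hb hd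
    have h := hV.blk b hb
    have hK := (blk_facts hV hb).2
    simp only [checkBlk, Bool.and_eq_true] at h
    have h := h.1.2
    cases hl : (V.blk b).link with
    | none =>
      simp only [hl] at h
      exact ⟨1, one_mem _, by rw [one_mul, S.eqW_sound _ _ h, S.ev_append, S.κ_val _ hK]⟩
    | some q =>
      simp only [hl, Bool.and_eq_true, Nat.blt_eq, Nat.beq_eq] at h
      obtain ⟨⟨⟨⟨⟨h1, h2⟩, h3⟩, h4⟩, h5⟩, h6⟩ := h
      obtain ⟨σ, hσ, he⟩ := ih _ (hd ▸ h2) q.1 h1 rfl
      refine ⟨S.ev (genW V.gens [(q.2.1, q.2.2.1)]) * σ,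
        Subgroup.mul_mem _ (genW_spec (gens_ok hV) _) hσ, ?_⟩
      rw [S.eqW_sound _ _ h5, S.ev_append, S.ev_append, he, h3, ← S.κ_val _ h4, pEq_val h6,
        val_append, map_mul]
      simp only [mul_assoc]

omit hV

/-- The extension of a function given on flags. -/
noncomputable def ext {β : Type*} [Inhabited β] (S : Side A) (V : VData) (φ : ℕ → ThP.P → β) (a : A) : β :=
  open scoped Classical in
  if h : S.Dec a then
    φ (V.blk h.choose).f (ThP.val (V.blk h.choose).K * h.choose_spec.2.choose)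
  else default

theorem ext_eq {β : Type*} [Inhabited β] (hS : S.Sep) (φ : ℕ → ThP.P → β) {b : ℕ} (hb : b < S.n) {k : ThP.P}
    (hk : k ∈ ThP.subC) :
    S.ext V φ (S.ev (S.rep b) * S.κ k) = φ (V.blk b).f (ThP.val (V.blk b).K * k) := by
  have h : S.Dec (S.ev (S.rep b) * S.κ k) := ⟨b, hb, k, hk, rfl⟩
  rw [ext, dif_pos h]
  obtain ⟨hk', he⟩ := h.choose_spec.2.choose_spec
  have hbb : b = h.choose := hS.uniq b hb _ h.choose_spec.1 k hk _ hk' he
  generalize h.choose_spec.2.choose = k₁ at hk' he ⊢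
  generalize h.choose = b₁ at hbb he ⊢
  subst hbb
  rw [hS.κ_inj (mul_left_cancel he)]

/-- Invariance of a function on flags under their stabilisers. -/
def Invariant (Φ : FlagData) (V : VData) {β : Type*} (φ : ℕ → ThP.P → β) : Prop :=
  ∀ f ∈ V.flags, ∀ s ∈ fstab Φ f, ∀ k ∈ ThP.subC, φ f (s * k) = φ f k

theorem invariant_of_gens {β : Type*} {φ : ℕ → ThP.P → β}
    (hc : ∀ f ∈ V.flags, ∀ c ∈ Φ.cg f, okH c = true)
    (h : ∀ f ∈ V.flags, ∀ c ∈ Φ.cg f, ∀ k ∈ ThP.subC, φ f (ThP.val c * k) = φ f k) :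
    Invariant Φ V φ := by
  intro f hf s hs
  suffices s ∈ ThP.subC ∧ ∀ k ∈ ThP.subC, φ f (s * k) = φ f k from this.2
  induction hs using Subgroup.closure_induction with
  | mem x hx =>
    obtain ⟨c, hcm, rfl⟩ := hx
    exact ⟨okH_mem (hc f hf c hcm), h f hf c hcm⟩
  | one => exact ⟨one_mem _, fun k _ => by rw [one_mul]⟩
  | mul x y _ _ hx hy =>
    exact ⟨mul_mem hx.1 hy.1, fun k hk => by rw [mul_assoc, hx.2 _ (mul_mem hy.1 hk), hy.2 k hk]⟩
  | inv x _ hx =>
    refine ⟨inv_mem hx.1, fun k hk => ?_⟩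
    conv_rhs => rw [← mul_inv_cancel_left x k, hx.2 _ (mul_mem (inv_mem hx.1) hk)]

include hV

theorem ext_flag {β : Type*} [Inhabited β] (hS : S.Sep) (φ : ℕ → ThP.P → β) {f : ℕ} (hf : f ∈ V.flags) {k : ThP.P}
    (hk : k ∈ ThP.subC) : S.ext V φ (S.ev (Φ.w f) * S.κ k) = φ f k := by
  obtain ⟨b, hb, hbf, -, -, he⟩ := flag_root hV hf
  have hK := (blk_facts hV hb).2
  rw [S.ev_append, ← S.κ_val _ hK] at he
  have : S.ev (Φ.w f) * S.κ k = S.ev (S.rep b) * S.κ ((ThP.val (V.blk b).K)⁻¹ * k) := by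
    rw [he, map_mul, map_inv, mul_assoc, mul_inv_cancel_left]
  rw [this, ext_eq hS φ hb (mul_mem (inv_mem (okH_mem hK)) hk), hbf, mul_inv_cancel_left]

theorem ext_stab {β : Type*} [Inhabited β] [Finite A] (hSep : S.Sep) {φ : ℕ → ThP.P → β} (hφ : Invariant Φ V φ) {σ : A}
    (hσ : σ ∈ S.stab V) {a : A} (ha : S.Dec a) : S.Dec (σ * a) ∧ S.ext V φ (σ * a) = S.ext V φ a := by
  have hσ' : σ ∈ Submonoid.closure {x | ∃ g ∈ V.gens, S.ev g = x} := by
    rw [← Subgroup.closure_toSubmonoid_of_finite]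
    exact hσ
  clear hσ
  revert a
  induction hσ' using Submonoid.closure_induction with
  | mem x hx =>
    intro a ha
    obtain ⟨g, hg, rfl⟩ := hx
    obtain ⟨b, hb, k, hk, rfl⟩ := ha
    obtain ⟨q, hq, κ', hκ', he, hl, hS⟩ := schreier hV hg hb
    rw [← mul_assoc, he, mul_assoc, ← map_mul]
    refine ⟨⟨q, hq, _, mul_mem hκ' hk, rfl⟩, ?_⟩
    rw [ext_eq hSep φ hq (mul_mem hκ' hk), ext_eq hSep φ hb hk, hl]
    have := hφ _ (blk_facts hV hb).1 _ hS (ThP.val (V.blk b).K * k)
      (mul_mem (okH_mem (blk_facts hV hb).2) hk)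
    rw [← this]
    congr 1
    group
  | one => intro a ha; rw [one_mul]; exact ⟨ha, rfl⟩
  | mul x y _ _ hx hy =>
    intro a ha
    obtain ⟨h1, h2⟩ := hy ha
    obtain ⟨h3, h4⟩ := hx h1
    rw [mul_assoc]
    exact ⟨h3, h4.trans h2⟩

end Side

end Cfsg.Agent.Lib.ThDce
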