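import Cfsg.Agent.Lib.ThDce.Count

/-! Simplicity of the Thompson group from a complete certificate. -/

set_option autoImplicit false

namespace Cfsg.Agent.Lib.ThDce

open Cfsg.Agent.Lib.CosetEnum Cfsg.Agent.Lib.ExactCover

namespace Cert

variable (F : Cert) (h : F.SepData) (hb : flagsBack F.C = true) {D : PrimData} (hD : D.check F.C = true)

/-- The number of points is the sum of the indices of the node stabilisers. -/
theorem card_XPt :
    Nat.card F.XPt = ∑ i : Fin F.C.nodes.length, (pSide.stab (F.C.vtx (F.nd i.1))).index := by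
  rw [Nat.card_sigma]
  rfl

include h hb hD

theorem card_G (n : ℕ) (hn : Nat.card F.XPt = n) : Nat.card G = n * 634023936 := by
  rw [← ThP.toTh.range.card_mul_index, F.index_range h hb hD, hn,
    ← Nat.card_congr (MonoidHom.ofInjective (toTh_injective h.hu)).toEquiv, ThP.card_P, mul_comm]

/-- Simplicity, given a node whose stabiliser has index more than 3. -/
theorem isSimple (i₀ : Fin F.C.nodes.length)
    (hi₀ : Nat.card (pSide.stab (F.C.vtx (F.nd i₀.1))) < 211341312) : IsSimpleGroup G := by
  haveI : Nontrivial G := ⟨⟨el [14], 1, fun he => h.hu (he ▸ one_mem _)⟩⟩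
  refine ⟨fun N hN => ?_⟩
  by_cases hNR : N ≤ ThP.toTh.range
  · left
    haveI : (N.comap ThP.toTh).Normal := hN.comap _
    rcases ThP.DSimple.normal_cases (N.comap ThP.toTh) inferInstance with hk | hk | hk
    · rw [eq_bot_iff]
      intro x hx
      obtain ⟨p, rfl⟩ := hNR hx
      have : p ∈ (⊥ : Subgroup ThP.P) := hk ▸ (show p ∈ N.comap ThP.toTh from hx)
      rw [Subgroup.mem_bot] at this
      rw [this, map_one]
      exact one_mem _
    all_goals
      exfalso
      have hfix : ∀ d ∈ ThP.DSimple.subD, d ∈ pSide.stab (F.C.vtx (F.nd i₀.1)) := by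
        intro d hd
        have hd' : ThP.toTh d ∈ N := by
          have : d ∈ N.comap ThP.toTh := by rw [hk]; first | exact hd | trivial
          exact this
        have he : F.pt i₀ d = F.pt i₀ 1 := by
          apply (F.toCoset_bijective h hb hD).1
          rw [toCoset_pt, toCoset_pt, QuotientGroup.eq, map_one, mul_one, inv_inv]
          have := hNR (hN.conj_mem _ (inv_mem hd') (F.g (F.nd i₀.1)))
          have := inv_mem this
          simpa [mul_assoc] using this
        rw [pt_eq_iff, inv_one, mul_one] at he
        exact he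
      have := Subgroup.card_le_of_le hfix
      rw [ThP.DSimple.card_subD] at this
      omega
  · right
    obtain ⟨z, hzN, hzR⟩ := SetLike.not_le_iff_exists.1 hNR
    set M := N ⊔ ThP.toTh.range with hM
    let Ψ : F.XPt → G ⧸ M := fun x => Subgroup.quotientMapOfLE le_sup_right (F.toCoset x)
    have hΨ : ∀ g < 16, ∀ x y, Ψ x = Ψ y → Ψ (F.step h g x) = Ψ (F.step h g y) := by
      have e : ∀ (w : G) (c : G ⧸ ThP.toTh.range),
          (Subgroup.quotientMapOfLE le_sup_right (w • c) : G ⧸ M) =
            w • Subgroup.quotientMapOfLE le_sup_right c := by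
        intro w c
        induction c using QuotientGroup.induction_on with
        | H a => rfl
      intro g hg x y hxy
      simp only [Ψ, F.toCoset_step h hg, e] at hxy ⊢
      rw [hxy]
    obtain ⟨x, hx⟩ := F.toCoset_surjective ((z : G) : G ⧸ ThP.toTh.range)
    have hxne : x ≠ F.base := by
      rintro rfl
      rw [toCoset_base, QuotientGroup.eq] at hx
      exact hzR (by simpa using hx)
    have hxB : Ψ x = Ψ F.base := by
      simp only [Ψ, hx, toCoset_base]
      change ((z : G) : G ⧸ M) = ((1 : G) : G ⧸ M)
      rw [QuotientGroup.eq, mul_one]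
      exact inv_mem (le_sup_left (a := N) hzN)
    have hall := F.constant h hD Ψ hΨ hxne hxB
    have hMtop : M = ⊤ := by
      rw [eq_top_iff]
      intro a _
      obtain ⟨y, hy⟩ := F.toCoset_surjective ((a : G) : G ⧸ ThP.toTh.range)
      have := hall y
      simp only [Ψ, hy, toCoset_base] at this
      change ((a : G) : G ⧸ M) = ((1 : G) : G ⧸ M) at this
      rw [QuotientGroup.eq, mul_one] at this
      simpa using inv_mem this
    haveI := hN
    let q : ThP.P →* G ⧸ N := (QuotientGroup.mk' N).comp ThP.toTh
    have hq : Function.Surjective q := by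
      intro c
      induction c using QuotientGroup.induction_on with
      | H a =>
        have ha : a ∈ N ⊔ ThP.toTh.range := by rw [← hM, hMtop]; trivial
        obtain ⟨n, hn, r, ⟨p, rfl⟩, rfl⟩ := Subgroup.mem_sup_of_normal_left.1 ha
        refine ⟨p, ?_⟩
        change ((ThP.toTh p : G) : G ⧸ N) = ((n * ThP.toTh p : G) : G ⧸ N)
        rw [QuotientGroup.eq]
        have := hN.conj_mem n hn (ThP.toTh p)⁻¹
        simpa [mul_assoc] using this
    by_contra hNtop
    obtain ⟨χ, hχt, hχ⟩ := ThP.DSimple.exists_chi
    have hker : q.ker ≤ χ.ker := by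
      have hD' : ThP.DSimple.subD ≤ χ.ker := by
        rw [ThP.DSimple.subD, ThP.DSimple.Dsub, Subgroup.closure_le]
        intro y hy
        exact hχ y hy
      rcases ThP.DSimple.normal_cases q.ker inferInstance with hk | hk | hk
      · rw [hk]; exact bot_le
      · rw [hk]; exact hD'
      · exfalso
        apply hNtop
        rw [eq_top_iff]
        intro a _
        obtain ⟨p, hp⟩ := hq (a : G ⧸ N)
        have : p ∈ q.ker := by rw [hk]; trivial
        rw [MonoidHom.mem_ker, hp] at this
        exact (QuotientGroup.eq_one_iff a).1 this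
    let θ : G ⧸ N →* Multiplicative (ZMod 3) :=
      MonoidHom.liftOfSurjective q hq ⟨χ, hker⟩
    have hθ : ∀ p, θ (q p) = χ p := fun p =>
      MonoidHom.liftOfRightInverse_comp_apply q _ (Function.rightInverse_surjInv hq) ⟨χ, hker⟩ p
    let ψ : G →* Multiplicative (ZMod 3) := θ.comp (QuotientGroup.mk' N)
    have ht : el [12] = ThP.toTh (ThP.DSimple.el 12) := by
      rw [el_eq_toTh [12] rfl, ThP.DSimple.val_singleton]
    have hrel : el [15, 12, 14, 12] = 1 := el_rel (by decide +kernel)
    rw [show ([15, 12, 14, 12] : List ℕ) = [ExactCover.flip 14] ++ [12] ++ [14] ++ [12] from rfl,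
      el_append, el_append, el_append, el_flip] at hrel
    have h1 := congrArg ψ hrel
    simp only [map_mul, map_inv, map_one] at h1
    have h2 : ψ (el [12]) * ψ (el [12]) = 1 := by
      rw [mul_comm (ψ (el [14]))⁻¹, mul_assoc (ψ (el [12])), inv_mul_cancel, mul_one] at h1
      exact h1
    have hval : ψ (el [12]) = χ (ThP.DSimple.el 12) := by rw [ht]; exact hθ _
    rw [hval] at h2
    apply hχt
    have key : ∀ m : Multiplicative (ZMod 3), m * m = 1 → m = 1 := by decide
    exact key _ h2

end Cert

end Cfsg.Agent.Lib.ThDce
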