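import Cfsg.Agent.Lib.ThDce.Data.All

/-! The presented Thompson group is finite. -/

set_option autoImplicit false

namespace Cfsg.Agent.Lib.ThDce

/-- The union of finitely many double cosets of the image of `P` is everything. -/
theorem finite_Th : Finite Cfsg.Spor.Th := Data.cert.finite

end Cfsg.Agent.Lib.ThDce
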