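import Cfsg.Agent.Lib.ThDce.CSch.Defs

/-!
Equations between cosets of `P` in the Thompson group. A state is a vertex with a word, standing for the coset
`P * rep * word`; vertices are nodes (words of `P`) or lines (words of `⟨a, c, d, e, s, t, u⟩`). Equations follow
from walks along earlier ones, closing with a relator.
-/

set_option autoImplicit false

namespace Cfsg.Agent.Lib.ThDce

open Cfsg.Agent.Lib.CosetEnum Cfsg.Agent.Lib.ExactCover

/-- A move of a state. -/
inductive Move where
  | use (f : ℕ) (rev : Bool) (k : List ℕ)
  | app (w : List ℕ)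

/-- Why an equation holds. -/
inductive Deriv where
  | tree
  | base
  | walk (ms : List Move) (r : Option (ℕ × Bool × ℕ))

/-- An equation between two states. -/
structure DFact where
  a : ℕ × List ℕ
  b : ℕ × List ℕ
  why : Deriv

/-- The equation with the given number. -/
def dFactAt (ch : List (List DFact)) (i : ℕ) : DFact :=
  (ch.getD (i / 32) []).getD (i % 32) ⟨(0, []), (0, []), .base⟩

/-- The data of a derivation: the table of the centraliser, the kinds of the vertices, the equations. -/
structure DData where
  T : CTab
  line : List Bool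
  ch : List (List DFact)
  /-- The number of tree edges: edge `k` defines vertex `k + 1`. -/
  nTree : ℕ

namespace DData

variable (D : DData)

/-- The equation with the given number. -/
def fact (i : ℕ) : DFact := dFactAt D.ch i

/-- Equality of two words at a vertex. -/
noncomputable def eqAt (v : ℕ) (u w : List ℕ) : Bool :=
  bif D.line.getD v false then
    CTab.okC u && CTab.okC w && Nat.beq (D.T.run u 0).1 (D.T.run w 0).1 &&
      pEq (D.T.run u 0).2 (D.T.run w 0).2
  else pEq u w

/-- Run moves on a state, collecting the letters appended. -/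
noncomputable def runMoves (n : ℕ) : List Move → ℕ × List ℕ → List ℕ → Option ((ℕ × List ℕ) × List ℕ)
  | [], st, A => some (st, A)
  | .app w :: ms, st, A => runMoves n ms (st.1, st.2 ++ w) (A ++ w)
  | .use f rev k :: ms, st, A =>
    let F := D.fact f
    let s1 := bif rev then F.b else F.a
    let s2 := bif rev then F.a else F.b
    bif Nat.blt f n && Nat.beq st.1 s1.1 && D.eqAt st.1 (s1.2 ++ k) st.2 then
      runMoves n ms (s2.1, s2.2 ++ k) A
    else none

/-- The word of the relator closing a walk. -/
def closing : Option (ℕ × Bool × ℕ) → List ℕ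
  | none => []
  | some r => rot r

/-- Check one equation. -/
noncomputable def check (i : ℕ) : Bool :=
  let F := D.fact i
  match F.why with
  | .tree => Nat.blt i D.nTree && Nat.ble F.a.1 i && Nat.beq F.b.1 (i + 1)
  | .base => Nat.beq F.a.1 0 && Nat.beq F.b.1 0 && okP F.a.2 && okP F.b.2
  | .walk ms r =>
    Nat.ble D.nTree i &&
      match D.runMoves i ms F.a [] with
      | none => false
      | some q => Nat.beq q.1.1 F.b.1 && D.eqAt q.1.1 q.1.2 F.b.2 && leq q.2 (closing r)

/-- The representatives of the vertices defined by the first `k` edges. -/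
noncomputable def repUpTo : ℕ → ℕ → G
  | 0, _ => 1
  | k + 1, v =>
    if v = k + 1 then
      repUpTo k (D.fact k).a.1 * el (D.fact k).a.2 * (el (D.fact k).b.2)⁻¹
    else repUpTo k v

/-- The representative of a vertex. -/
noncomputable def rep (v : ℕ) : G := D.repUpTo v v

theorem repUpTo_eq : ∀ (k v : ℕ), v ≤ k → D.repUpTo k v = D.rep v := by
  intro k
  induction k with
  | zero => intro v hv; rw [Nat.le_zero.1 hv, rep]
  | succ k ih =>
    intro v hv
    by_cases h : v = k + 1
    · subst h; rfl
    · rw [repUpTo, if_neg h]; exact ih v (by omega)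

theorem rep_zero : D.rep 0 = 1 := rfl

theorem rep_succ (k : ℕ) (h : (D.fact k).a.1 ≤ k) :
    D.rep (k + 1) = D.rep (D.fact k).a.1 * el (D.fact k).a.2 * (el (D.fact k).b.2)⁻¹ := by
  rw [rep, repUpTo, if_pos rfl, D.repUpTo_eq k _ h]

/-- The meaning of an equation. -/
def Rel (F : DFact) : Prop :=
  D.rep F.a.1 * el F.a.2 * (D.rep F.b.1 * el F.b.2)⁻¹ ∈ ThP.toTh.range

variable {D}

theorem eqAt_el (hT : D.T.OK) {v : ℕ} {u w : List ℕ} (h : D.eqAt v u w = true) : el u = el w := by
  unfold eqAt at h
  cases hl : D.line.getD v false with
  | false => rw [hl] at h; exact pEq_el h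
  | true =>
    rw [hl] at h
    simp only [cond_true, Bool.and_eq_true, Nat.beq_eq] at h
    obtain ⟨⟨⟨hu, hw⟩, hj⟩, he⟩ := h
    have e1 := (CTab.run_sound hT u 0 hu (by omega)).2.2.2
    have e2 := (CTab.run_sound hT w 0 hw (by omega)).2.2.2
    rw [hT.rep0, el_nil, one_mul] at e1 e2
    rw [e1, e2, hj, pEq_el he]

theorem runMoves_sound (hT : D.T.OK) {n : ℕ} (hn : ∀ f < n, D.Rel (D.fact f)) (X : G) :
    ∀ (ms : List Move) (st : ℕ × List ℕ) (A : List ℕ),
      X * el A * (D.rep st.1 * el st.2)⁻¹ ∈ ThP.toTh.range →
      ∀ q, D.runMoves n ms st A = some q →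
        X * el q.2 * (D.rep q.1.1 * el q.1.2)⁻¹ ∈ ThP.toTh.range := by
  intro ms
  induction ms with
  | nil => intro st A h q hq; simp only [runMoves, Option.some.injEq] at hq; subst hq; exact h
  | cons m ms ih =>
    intro st A h q hq
    cases m with
    | app w =>
      simp only [runMoves] at hq
      refine ih _ _ ?_ q hq
      simpa [el_append, mul_assoc] using h
    | use f rev k =>
      simp only [runMoves] at hq
      cases hc : (Nat.blt f n &&
          Nat.beq st.1 (bif rev then (D.fact f).b else (D.fact f).a).1 &&
          D.eqAt st.1 ((bif rev then (D.fact f).b else (D.fact f).a).2 ++ k) st.2) with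
      | false => simp [hc] at hq
      | true =>
        simp only [hc, cond_true] at hq
        simp only [Bool.and_eq_true, Nat.blt_eq, Nat.beq_eq] at hc
        obtain ⟨⟨hf, h1⟩, h2⟩ := hc
        refine ih _ _ ?_ q hq
        have hR := hn f hf
        have hu := eqAt_el hT h2
        rw [← hu, h1] at h
        simp only [Rel] at hR
        cases rev with
        | false =>
          have := ThP.toTh.range.mul_mem h hR
          simpa [el_append, mul_assoc] using this
        | true =>
          have := ThP.toTh.range.mul_mem h (ThP.toTh.range.inv_mem hR)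
          simpa [el_append, mul_assoc] using this

theorem el_closing : ∀ r : Option (ℕ × Bool × ℕ), el (closing r) = 1
  | none => el_nil
  | some r => el_rot r

theorem check_sound (hT : D.T.OK) {N : ℕ} (hc : ∀ i < N, D.check i = true) :
    ∀ i < N, D.Rel (D.fact i) := by
  intro i
  induction i using Nat.strong_induction_on with
  | _ i ih =>
    intro hi
    have h := hc i hi
    simp only [check] at h
    cases hw : (D.fact i).why with
    | tree =>
      simp only [hw, Bool.and_eq_true, Nat.blt_eq, Nat.ble_eq, Nat.beq_eq] at h
      simp [Rel, h.2, D.rep_succ i h.1.2, mul_assoc, one_mem]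
    | base =>
      simp only [hw, Bool.and_eq_true, Nat.beq_eq] at h
      simp only [Rel, h.1.1.1, h.1.1.2, rep_zero, one_mul]
      exact ThP.toTh.range.mul_mem (el_mem_range h.1.2) (ThP.toTh.range.inv_mem (el_mem_range h.2))
    | walk ms r =>
      simp only [hw, Bool.and_eq_true, Nat.ble_eq] at h
      obtain ⟨-, h⟩ := h
      cases hr : D.runMoves i ms (D.fact i).a [] with
      | none => simp [hr] at h
      | some q =>
        simp only [hr, Bool.and_eq_true, Nat.beq_eq] at h
        obtain ⟨⟨hb, he⟩, hA⟩ := h
        have := runMoves_sound hT (fun f hf => ih f hf (hf.trans hi))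
          (D.rep (D.fact i).a.1 * el (D.fact i).a.2) ms _ [] (by simp [el_nil, one_mem]) q hr
        rw [leq_eq hA, el_closing, mul_one, eqAt_el hT he, hb] at this
        exact this

end DData

end Cfsg.Agent.Lib.ThDce
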